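import Cfsg.Agent.Lib.CGroup.Outer
import Cfsg.Agent.Lib.RegLinear.QuatCase
import Cfsg.Agent.S0201
import Cfsg.Agent.S3378

/-!
Finite groups without odd core in which subgroups of equal order are conjugate.
-/

set_option autoImplicit false
set_option linter.unusedSectionVars false
set_option linter.style.haveILetI false

namespace CfsgLib.CGroup

open Subgroup CfsgLib.Involutions
open CfsgLib.StrongEmbedding.ElementaryCentralizers (normT involution_mem_T)

universe u

variable {G : Type u} [Group G] [Finite G] {T : Sylow 2 G} {n : ℕ}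

theorem setup_of_index (hR : NoReal G) (hel : Cfsg.IsElementaryAbelian 2 (T : Subgroup G))
    (hcard : Nat.card (T : Subgroup G) = 2 ^ n) (hn : 2 ≤ n) (hp : (2 ^ n - 1).Prime)
    (hTn : ¬ (T : Subgroup G).Normal)
    (hidx : (centralizer ((T : Subgroup G) : Set G)).relIndex (normT T) = 2 ^ n - 1) :
    Setup T n := ⟨hR, hel, hn, hcard, hp, hTn, hidx⟩

namespace Outer

variable (h : Outer T n)
include h

/-- A normal subgroup of index a power of `n` with the standard setup. -/
theorem exists_normal_setup (hTn : ¬ (T : Subgroup G).Normal) :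
    ∃ (K : Subgroup G) (TK : Sylow 2 K), K.Normal ∧ Setup TK n ∧ ¬ n ∣ Nat.card K ∧
      n ∣ K.index ∧ (TK : Subgroup K).map K.subtype = (T : Subgroup G) := by
  classical
  have : Fact (Nat.Prime 2) := ⟨Nat.prime_two⟩
  haveI := Fact.mk h.hn
  haveI := Fact.mk h.prime
  obtain ⟨A⟩ : Nonempty (Sylow n G) := inferInstance
  obtain ⟨S, K, hK, hc⟩ :=
    CfsgLib.Transfer.hasNormalPComplement_of_normalizer_le A (h.normalizer_le_centralizer A)
  haveI := hK
  have hKn : ¬ n ∣ Nat.card K := by
    intro h2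
    apply S.not_dvd_index
    rwa [hc.index_eq_card]
  have hidxK : K.index = Nat.card S := hc.symm.index_eq_card
  have hnG : n ∣ Nat.card G := by
    have h1 : n ∣ Nat.card (T : Subgroup G).normalizerMonoidHom.range := by
      rw [h.range_card]; exact dvd_mul_left n _
    exact h1.trans ((card_range_dvd _).trans (card_subgroup_dvd_card _))
  have hnK : n ∣ K.index := by
    rw [hidxK, Sylow.card_eq_multiplicity]
    exact dvd_pow_self n (h.hn.factorization_pos_of_dvd Nat.card_pos.ne' hnG).ne'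
  -- elements of order prime to `n` lie in `K`
  have hmemK : ∀ g : G, (orderOf g).Coprime n → g ∈ K := by
    intro g hg
    rw [← QuotientGroup.eq_one_iff, ← orderOf_eq_one_iff]
    obtain ⟨l, hl⟩ := IsPGroup.iff_card.1 S.isPGroup'
    refine Nat.eq_one_of_dvd_coprimes (hg.pow_right l) (orderOf_map_dvd (QuotientGroup.mk' K) g) ?_
    rw [← hl, ← hidxK, index_eq_card]
    exact orderOf_dvd_natCard _
  have hTK : (T : Subgroup G) ≤ K := fun t ht => hmemK t (by
    by_cases h1 : t = 1
    · rw [h1, orderOf_one]; exact Nat.coprime_one_left _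
    rw [orderOf_eq_prime (h.elem.2 t ht) h1]
    exact (Nat.coprime_primes Nat.prime_two h.hn).2 (Ne.symm h.hn2))
  set TK : Sylow 2 K := T.subtype hTK
  have hmapT : (TK : Subgroup K).map K.subtype = (T : Subgroup G) := map_subgroupOf_eq_of_le hTK
  have hTKn : ¬ (TK : Subgroup K).Normal := by
    intro hN
    haveI := hN
    apply hTn
    constructor
    intro t ht g
    by_cases h1 : t = 1
    · simp [h1]
    have hg : orderOf (g * t * g⁻¹) = 2 :=
      (orderOf_conj_eq g t).trans (orderOf_eq_prime (h.elem.2 t ht) h1)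
    have hmem : g * t * g⁻¹ ∈ K := hK.conj_mem t (hTK ht) g
    refine involution_mem_T hg ?_
    refine CfsgLib.Coprime.mem_normalizer_of_forall_conj fun x hx => ?_
    exact hN.conj_mem ⟨x, hTK hx⟩ hx ⟨_, hmem⟩
  have hel : Cfsg.IsElementaryAbelian 2 (TK : Subgroup K) :=
    ⟨⟨⟨fun a b => Subtype.ext (Subtype.ext (h.comm a.2 b.2).eq)⟩⟩,
      fun a ha => Subtype.ext (by simpa using h.elem.2 (a : G) ha)⟩
  have hcard : Nat.card (TK : Subgroup K) = 2 ^ n := by
    rw [← h.card_T]; exact Nat.card_congr (subgroupOfEquivOfLe hTK).toEquiv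
  set ψ := (T : Subgroup G).normalizerMonoidHom
  let ι : normT TK →* normT T :=
    { toFun := fun a => ⟨((a : K) : G), by
        refine CfsgLib.Coprime.mem_normalizer_of_forall_conj fun z hz => ?_
        exact (mem_normalizer_iff.1 a.2 ⟨z, hTK hz⟩).1 hz⟩
      map_one' := rfl
      map_mul' := fun _ _ => rfl }
  have hker : (ψ.comp ι).ker = (centralizer ((TK : Subgroup K) : Set K)).subgroupOf (normT TK) := by
    ext a
    rw [MonoidHom.mem_ker, MonoidHom.comp_apply, ← MonoidHom.mem_ker, normalizerMonoidHom_ker,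
      mem_subgroupOf, mem_subgroupOf, mem_centralizer_iff, mem_centralizer_iff]
    exact ⟨fun e z hz => Subtype.ext (e (z : G) hz),
      fun e z hz => congrArg Subtype.val (e ⟨z, hTK hz⟩ hz)⟩
  have hidx : (centralizer ((TK : Subgroup K) : Set K)).relIndex (normT TK) = 2 ^ n - 1 := by
    rw [relIndex, ← hker, Subgroup.index_ker]
    have h1 : Nat.card (ψ.comp ι).range ∣ (2 ^ n - 1) * n := by
      rw [← h.range_card]
      exact card_dvd_of_le (by rintro _ ⟨a, rfl⟩; exact ⟨ι a, rfl⟩)
    have h2 : ¬ n ∣ Nat.card (ψ.comp ι).range := fun h2 =>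
      hKn (h2.trans ((card_range_dvd _).trans (card_subgroup_dvd_card _)))
    have h3 : Nat.card (ψ.comp ι).range ∣ 2 ^ n - 1 :=
      ((h.hn.coprime_iff_not_dvd.2 h2).symm).dvd_of_dvd_mul_right h1
    refine ((Nat.dvd_prime h.prime).1 h3).resolve_left fun e => ?_
    -- an element inducing order `2^n - 1`
    obtain ⟨⟨_, ⟨⟨g, hgN⟩, rfl⟩⟩, hr⟩ := exists_prime_orderOf_dvd_card' (G := ψ.range) (2 ^ n - 1)
      (by rw [h.range_card]; exact dvd_mul_right _ n)
    replace hr : orderOf (ψ ⟨g, hgN⟩) = 2 ^ n - 1 :=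
      (Subgroup.orderOf_coe (⟨ψ ⟨g, hgN⟩, ⟨_, rfl⟩⟩ : ψ.range)).trans hr
    set m := ordCompl[2 ^ n - 1] (orderOf g)
    have hgK : g ^ m ∈ K := hmemK _ (by
      rw [orderOf_pow_orderOf_div (orderOf_pos g).ne' (Nat.ordProj_dvd _ _)]
      refine Nat.Coprime.pow_left _ ((Nat.coprime_primes h.prime h.hn).2 fun e' => h.ne ?_)
      rw [e'])
    have hgN' : (⟨g ^ m, hgK⟩ : K) ∈ normT TK :=
      CfsgLib.Coprime.mem_normalizer_of_forall_conj fun z hz =>
        (mem_normalizer_iff.1 (pow_mem hgN m) (z : G)).1 hz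
    have h5 : (ψ.comp ι) ⟨_, hgN'⟩ ∈ (⊥ : Subgroup (MulAut (T : Subgroup G))) :=
      (eq_bot_of_card_eq (ψ.comp ι).range e) ▸ ⟨_, rfl⟩
    rw [mem_bot] at h5
    have h6 : ψ ⟨g, hgN⟩ ^ m = 1 := by rw [← map_pow]; exact h5
    have h7 := orderOf_dvd_of_pow_eq_one h6
    rw [hr] at h7
    exact Nat.not_dvd_ordCompl h.prime (orderOf_pos g).ne' h7
  exact ⟨K, TK, hK, setup_of_index (h.conj.noReal.subgroup K) hel hcard h.hn.two_le h.prime hTKn hidx,
    hKn, hnK, hmapT⟩

end Outer

/-- The case of a non-normal elementary abelian Sylow two-subgroup. -/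
theorem not_normal_case (hC : CGrp G) (hel : Cfsg.IsElementaryAbelian 2 (T : Subgroup G))
    (hcard : Nat.card (T : Subgroup G) = 2 ^ n) (hn : 2 ≤ n) (hTn : ¬ (T : Subgroup G).Normal)
    (hO : Cfsg.oddCore G = ⊥) :
    (n = 2 ∧ Nat.card G = 60 ∧ Nonempty (G ≃* alternatingGroup (Fin 5))) ∨
    Nonempty (G ≃* Matrix.ProjectiveSpecialLinearGroup (Fin 2) (GaloisField 2 3)) ∨
    Nonempty (G ≃* MulAut (Matrix.ProjectiveSpecialLinearGroup (Fin 2) (GaloisField 2 5))) := by
  classical
  rcases index_cases hC hel hcard hn with ⟨rfl, hi⟩ | ⟨rfl, hi | hi⟩ | ⟨rfl, hi⟩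
  · obtain ⟨e⟩ := (setup_of_index hC.noReal hel hcard hn (by norm_num) hTn
      (by rw [hi]; norm_num)).iso_psl hO
    letI := Fintype.ofFinite (GaloisField 2 2)
    obtain ⟨e'⟩ := CfsgLib.ClassicalGroups.psl_two_four_alternating (K := GaloisField 2 2)
      (by rw [← Nat.card_eq_fintype_card, GaloisField.card 2 2 (by norm_num)]; norm_num)
    refine Or.inl ⟨rfl, ?_, ⟨e.trans e'⟩⟩
    rw [Nat.card_congr e.toEquiv, card_psl_two (by norm_num)]
    norm_num
  · exact Or.inr (Or.inl ((setup_of_index hC.noReal hel hcard hn (by norm_num) hTn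
      (by rw [hi]; norm_num)).iso_psl hO))
  · exfalso
    have h : Outer T 3 := ⟨hC, hel, hcard, by norm_num, by norm_num, by norm_num, by norm_num,
      by norm_num, by decide, by rw [hi]; norm_num⟩
    obtain ⟨K, TK, hK, hS, hnd, -, -⟩ := h.exists_normal_setup hTn
    obtain ⟨e⟩ := hS.iso_psl (CfsgLib.PCore.pPrimeCore_eq_bot_of_normal K hO)
    apply hnd
    rw [Nat.card_congr e.toEquiv, card_psl_two (by norm_num)]
    norm_num
  · refine Or.inr (Or.inr ?_)
    have h : Outer T 5 := ⟨hC, hel, hcard, by norm_num, by norm_num, by norm_num, by norm_num,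
      by norm_num, by decide, by rw [hi]; norm_num⟩
    obtain ⟨K, TK, hK, hS, hnd, hdvd, -⟩ := h.exists_normal_setup hTn
    haveI := hK
    have hOK : Cfsg.oddCore K = ⊥ := CfsgLib.PCore.pPrimeCore_eq_bot_of_normal K hO
    obtain ⟨e⟩ := hS.iso_psl hOK
    let φ : G →* MulAut K := MulAut.conjNormal
    have hinj : Function.Injective φ := by
      rw [← MonoidHom.ker_eq_bot_iff]
      have hint : ∀ z ∈ φ.ker, z ∈ K → z = 1 := by
        intro z hz hzK
        by_contra hz1
        have hcen : ∀ k : K, Commute (⟨z, hzK⟩ : K) k := by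
          intro k
          refine Subtype.ext ?_
          have := congrArg Subtype.val (DFunLike.congr_fun (MonoidHom.mem_ker.1 hz) k)
          rw [MulAut.conjNormal_apply] at this
          exact mul_inv_eq_iff_eq_mul.1 this
        have hzT : (⟨z, hzK⟩ : K) ∈ (TK : Subgroup K) := by
          rw [← hS.centralizer_eq hOK]
          exact mem_centralizer_iff.2 fun t _ => ((hcen t).eq).symm
        have hz1' : (⟨z, hzK⟩ : K) ≠ 1 := fun e => hz1 (congrArg Subtype.val e)
        refine hS.not_normal (normalizer_eq_top_iff.1 (eq_top_iff.2 fun k _ => ?_))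
        exact hS.centralizer_le hzT hz1' (hcen k).symm
      have hodd : ¬ 2 ∣ Nat.card φ.ker := by
        intro h2
        have : Fact (Nat.Prime 2) := ⟨Nat.prime_two⟩
        obtain ⟨t, ht, hto⟩ := exists_involution_of_even_card φ.ker (even_iff_two_dvd.2 h2)
        refine ne_one_of_involution hto (hint t ht ?_)
        -- involutions lie in `K`, whose index is odd
        have hindex : ¬ 2 ∣ K.index := by
          intro h3
          have h4 := K.card_mul_index
          apply T.not_dvd_index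
          have hc := (T : Subgroup G).card_mul_index
          rw [hcard] at hc
          have hK' : 2 ^ 5 ∣ Nat.card K := by
            rw [← hS.card_T]; exact card_subgroup_dvd_card _
          obtain ⟨a, ha⟩ := hK'
          rw [ha, ← hc, mul_assoc] at h4
          have h5 : a * K.index = (T : Subgroup G).index := Nat.eq_of_mul_eq_mul_left (by norm_num) h4
          exact h5 ▸ Dvd.dvd.mul_left h3 a
        rw [← QuotientGroup.eq_one_iff, ← orderOf_eq_one_iff]
        refine ((Nat.dvd_prime Nat.prime_two).1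
          ((orderOf_map_dvd (QuotientGroup.mk' K) t).trans (dvd_of_eq hto))).resolve_right fun e2 => hindex ?_
        rw [index_eq_card, ← e2]
        exact orderOf_dvd_natCard _
      exact eq_bot_iff.2 ((CfsgLib.PCore.le_pPrimeCore_of_not_dvd inferInstance hodd).trans hO.le)
    have hKc : Nat.card K = (2 ^ 5 + 1) * (2 ^ 5 * (2 ^ 5 - 1)) := by
      rw [Nat.card_congr e.toEquiv, card_psl_two (by norm_num)]
    let E := MulAut.congr e
    have hAut : Nat.card (MulAut K) = 5 * Nat.card K := by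
      rw [Nat.card_congr E.toEquiv, card_mulAut_psl32, hKc]
    haveI : Finite (MulAut K) := Finite.of_injective _ (fun a b e => MulEquiv.toEquiv_injective e)
    have hG : Nat.card G = Nat.card (MulAut K) := by
      refine le_antisymm (Nat.card_le_card_of_injective φ hinj) ?_
      rw [hAut, ← K.card_mul_index, mul_comm]
      exact Nat.mul_le_mul_left _ (Nat.le_of_dvd (Nat.pos_of_ne_zero index_ne_zero_of_finite) hdvd)
    exact ⟨(MulEquiv.ofBijective φ ((Nat.bijective_iff_injective_and_card _).2 ⟨hinj, hG⟩)).trans E⟩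

/-- An elementary abelian non-cyclic Sylow two-subgroup. -/
theorem elementary_case (hC : CGrp G) (hel : Cfsg.IsElementaryAbelian 2 (T : Subgroup G))
    (hcard : Nat.card (T : Subgroup G) = 2 ^ n) (hn : 2 ≤ n) (hO : Cfsg.oddCore G = ⊥) :
    (n = 2 ∧ (T : Subgroup G).Normal ∧ Nat.card G = 12 ∧
      centralizer ((T : Subgroup G) : Set G) = (T : Subgroup G) ∧
      Nonempty (G ≃* alternatingGroup (Fin 4))) ∨
    (n = 2 ∧ Nat.card G = 60 ∧ Nonempty (G ≃* alternatingGroup (Fin 5))) ∨
    (3 ≤ n ∧ (Nonempty (G ≃* Cfsg.affineGroup (GaloisField 2 3)) ∨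
      Nonempty (G ≃* Cfsg.semiaffineGroup (GaloisField 2 3)) ∨
      Nonempty (G ≃* Cfsg.semiaffineGroup (GaloisField 2 5)) ∨
      Nonempty (G ≃* Matrix.ProjectiveSpecialLinearGroup (Fin 2) (GaloisField 2 3)) ∨
      Nonempty (G ≃* MulAut (Matrix.ProjectiveSpecialLinearGroup (Fin 2) (GaloisField 2 5))))) := by
  by_cases hTn : (T : Subgroup G).Normal
  · rcases index_cases hC hel hcard hn with ⟨rfl, -⟩ | ⟨rfl, -⟩ | ⟨rfl, -⟩
    · have hn3 : ¬ 3 ≤ 2 := by norm_num
      rcases normal_case hC hel hcard hn hTn hO with ⟨-, h1, h2, h3⟩ | ⟨⟨e⟩⟩ | ⟨⟨e⟩⟩ | ⟨⟨e⟩⟩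
      · exact Or.inl ⟨rfl, hTn, h1, h2, h3⟩
      all_goals
        exfalso
        have : Fact (Nat.Prime 2) := ⟨Nat.prime_two⟩
        have h8 : ¬ 8 ∣ Nat.card G := by
          intro h8
          have h1 := (Nat.prime_two.pow_dvd_iff_le_factorization (k := 3) Nat.card_pos.ne').1 h8
          have h2 := Sylow.card_eq_multiplicity T
          rw [hcard] at h2
          have h3 := Nat.pow_right_injective (le_refl 2) h2
          omega
        apply h8
        rw [Nat.card_congr e.toEquiv]
      · rw [card_affine 3 (by norm_num)]; norm_num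
      · rw [Cfsg.Agent.S4025.card_semiaffine 2 3 (by norm_num)]; norm_num
      · rw [Cfsg.Agent.S4025.card_semiaffine 2 5 (by norm_num)]; norm_num
    all_goals
      rcases normal_case hC hel hcard hn hTn hO with ⟨h, -⟩ | h | h | h
      · omega
      · exact Or.inr (Or.inr ⟨by norm_num, Or.inl h⟩)
      · exact Or.inr (Or.inr ⟨by norm_num, Or.inr (Or.inl h)⟩)
      · exact Or.inr (Or.inr ⟨by norm_num, Or.inr (Or.inr (Or.inl h))⟩)
  · rcases Nat.lt_or_ge n 3 with h2 | h3
    · obtain rfl : n = 2 := by omega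
      rcases not_normal_case hC hel hcard hn hTn hO with h | ⟨⟨e⟩⟩ | ⟨⟨e⟩⟩
      · exact Or.inr (Or.inl h)
      all_goals
        exfalso
        have : Fact (Nat.Prime 2) := ⟨Nat.prime_two⟩
        have h8 : ¬ 8 ∣ Nat.card G := by
          intro h8
          have h1 := (Nat.prime_two.pow_dvd_iff_le_factorization (k := 3) Nat.card_pos.ne').1 h8
          have h2 := Sylow.card_eq_multiplicity T
          rw [hcard] at h2
          have h3 := Nat.pow_right_injective (le_refl 2) h2
          omega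
        apply h8
        rw [Nat.card_congr e.toEquiv]
      · rw [card_psl_two (by norm_num)]; norm_num
      · rw [card_mulAut_psl32]; norm_num
    · rcases not_normal_case hC hel hcard hn hTn hO with ⟨h, -⟩ | h | h
      · omega
      · exact Or.inr (Or.inr ⟨h3, Or.inr (Or.inr (Or.inr (Or.inl h)))⟩)
      · exact Or.inr (Or.inr ⟨h3, Or.inr (Or.inr (Or.inr (Or.inr h)))⟩)

/-- A quaternion Sylow two-subgroup. -/
theorem quaternion_case (hC : CGrp G) (T : Sylow 2 G)
    (e : (T : Subgroup G) ≃* QuaternionGroup 2) (hO : Cfsg.oddCore G = ⊥) :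
    Nonempty (G ≃* Matrix.SpecialLinearGroup (Fin 2) (ZMod 3)) ∨
    Nonempty (G ≃* Matrix.SpecialLinearGroup (Fin 2) (ZMod 5)) := by
  classical
  have : Fact (Nat.Prime 2) := ⟨Nat.prime_two⟩
  set Z := center G with hZdef
  have hZ2 : Nat.card Z = 2 := by
    refine Cfsg.Agent.S0201.result T 0 e fun N hN hodd => ?_
    rw [eq_bot_iff, ← hO]
    exact CfsgLib.PCore.le_pPrimeCore hN (Nat.coprime_two_right.2 hodd)
  have hZp : IsPGroup 2 Z := IsPGroup.of_card (n := 1) (by rw [hZ2, pow_one])
  have hO' : Cfsg.oddCore (G ⧸ Z) = ⊥ := by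
    rw [eq_bot_iff]
    intro x hx
    obtain ⟨g, rfl⟩ := QuotientGroup.mk_surjective x
    set O' := (Cfsg.oddCore (G ⧸ Z)).comap (QuotientGroup.mk' Z)
    -- the preimage splits over the centre
    have hZO : Z ≤ O' := fun z hz => by
      refine mem_comap.2 ?_
      rw [QuotientGroup.mk'_apply, (QuotientGroup.eq_one_iff z).2 hz]
      exact one_mem _
    have hcO : Nat.card O' = 2 * Nat.card (Cfsg.oddCore (G ⧸ Z)) := by
      rw [card_comap_quot, hZ2]
    let ZO : Sylow 2 O' := Sylow.ofCard (Z.subgroupOf O') (by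
      rw [Nat.card_congr (subgroupOfEquivOfLe hZO).toEquiv, hZ2, hcO,
        Nat.factorization_mul two_ne_zero Nat.card_pos.ne', Finsupp.add_apply,
        Nat.prime_two.factorization_self,
        Nat.factorization_eq_zero_of_not_dvd CfsgLib.PCore.not_dvd_card_pPrimeCore]
      rfl)
    have hcen : (ZO : Subgroup O') ≤ center O' := fun z hz =>
      mem_center_iff.2 fun k => Subtype.ext (mem_center_iff.1 hz (k : G))
    have h1 := card_eq_of_central_sylow ZO hcen
    have h2 : Nat.card (ZO : Subgroup O') = 2 := by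
      show Nat.card (Z.subgroupOf O') = 2
      rw [Nat.card_congr (subgroupOfEquivOfLe hZO).toEquiv, hZ2]
    rw [hcO, h2] at h1
    haveI : O'.Normal := inferInstance
    have h3 := CfsgLib.PCore.pPrimeCore_eq_bot_of_normal (p := 2) O' hO
    rw [show Nat.card (Cfsg.oddCore O') = 1 by rw [show Cfsg.oddCore O' = ⊥ from h3, card_bot]] at h1
    have h4 : Cfsg.oddCore (G ⧸ Z) = ⊥ := Subgroup.eq_bot_of_card_eq _ (by omega)
    rwa [h4] at hx
  set f := QuotientGroup.mk' Z with hf
  have hfs : Function.Surjective f := QuotientGroup.mk'_surjective Z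
  set Tb : Sylow 2 (G ⧸ Z) := T.mapSurjective hfs with hTb
  have hZT : Z ≤ (T : Subgroup G) := hZp.le_sylow_of_normal T
  have hcardT : Nat.card (T : Subgroup G) = 8 := by
    rw [Nat.card_congr e.toEquiv, Nat.card_eq_fintype_card, QuaternionGroup.card]
  have hker : Nat.card Tb * 2 = 8 := by
    have h1 := CfsgLib.Coprime.card_map_mul_inf_ker f (T : Subgroup G)
    rw [hf, QuotientGroup.ker_mk', inf_eq_left.2 hZT, hZ2, hcardT] at h1
    exact h1
  have hTb4 : Nat.card (Tb : Subgroup (G ⧸ Z)) = 2 ^ 2 := by norm_num; omega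
  have hzT : ∀ a : QuaternionGroup 2, a ^ 2 = 1 ∨ (a ^ 2 = QuaternionGroup.a 2) := by decide
  have hel : Cfsg.IsElementaryAbelian 2 (Tb : Subgroup (G ⧸ Z)) := by
    have hsq : ∀ x ∈ (Tb : Subgroup (G ⧸ Z)), x ^ 2 = 1 := by
      rintro _ ⟨t, ht, rfl⟩
      rw [← map_pow]
      refine (QuotientGroup.eq_one_iff _).2 ?_
      obtain ⟨z, hz, hz1⟩ : ∃ z ∈ Z, z ≠ 1 := by
        haveI : Nontrivial Z := Finite.one_lt_card_iff_nontrivial.1 (by omega)
        obtain ⟨⟨z, hz⟩, hne⟩ := exists_ne (1 : Z)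
        exact ⟨z, hz, fun e => hne (Subtype.ext e)⟩
      rcases hzT (e ⟨t, ht⟩) with h1 | h1
      · have : (⟨t, ht⟩ : (T : Subgroup G)) ^ 2 = 1 := e.injective (by rw [map_pow, h1, map_one])
        rw [show t ^ 2 = 1 from congrArg Subtype.val this]
        exact one_mem _
      · have hzq : e ⟨z, hZT hz⟩ = QuaternionGroup.a 2 := by
          have h2 : e ⟨z, hZT hz⟩ ^ 2 = 1 := by
            have hord : orderOf z ∣ 2 := by
              rw [← hZ2]; exact Subgroup.orderOf_dvd_natCard _ hz
            rw [← map_pow, show (⟨z, hZT hz⟩ : (T : Subgroup G)) ^ 2 = 1 from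
              Subtype.ext (orderOf_dvd_iff_pow_eq_one.1 hord), map_one]
          have hall : ∀ a : QuaternionGroup 2, a ^ 2 = 1 → a = 1 ∨ a = QuaternionGroup.a 2 := by decide
          exact (hall _ h2).resolve_left fun h3 =>
            hz1 (congrArg Subtype.val (e.injective (h3.trans (map_one e).symm)))
        have : (⟨t, ht⟩ : (T : Subgroup G)) ^ 2 = ⟨z, hZT hz⟩ :=
          e.injective (by rw [map_pow, h1, hzq])
        rw [show t ^ 2 = z from congrArg Subtype.val this]
        exact hz
    refine ⟨⟨⟨fun a b => ?_⟩⟩, hsq⟩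
    have key : ∀ x : (Tb : Subgroup (G ⧸ Z)), x⁻¹ = x := fun x =>
      inv_eq_of_mul_eq_one_right (Subtype.ext (by simpa [pow_two] using hsq x x.2))
    calc a * b = (a * b)⁻¹ := (key _).symm
      _ = b * a := by rw [mul_inv_rev, key, key]
  have hcardG : Nat.card G = 2 * Nat.card (G ⧸ Z) := by
    rw [← Z.card_mul_index, hZ2, index_eq_card]
  rcases elementary_case (hC.quotient Z) hel hTb4 le_rfl hO' with
    ⟨-, hn', h12, hcen, -⟩ | ⟨-, h60, ⟨e5⟩⟩ | ⟨h3, -⟩
  · left
    haveI hTn : (T : Subgroup G).Normal := by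
      have h1 : (T : Subgroup G) = (Tb : Subgroup (G ⧸ Z)).comap f := by
        rw [hTb, Sylow.coe_mapSurjective, comap_map_eq, hf, QuotientGroup.ker_mk', sup_eq_left.2 hZT]
      rw [h1]
      exact hn'.comap f
    refine CfsgLib.RegLinear.sl23_of_quaternion (by rw [hcardG, h12]) (T : Subgroup G) ⟨e⟩ ?_
    intro w hw h3
    have h1 : f w ∈ centralizer ((Tb : Subgroup (G ⧸ Z)) : Set (G ⧸ Z)) := by
      refine mem_centralizer_iff.2 ?_
      rintro _ ⟨t, ht, rfl⟩
      rw [← map_mul, ← map_mul, mem_centralizer_iff.1 hw t ht]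
    rw [hcen] at h1
    obtain ⟨t, ht, hte⟩ := h1
    have hwT : w ∈ (T : Subgroup G) := by
      have h4 : t⁻¹ * w ∈ Z := QuotientGroup.eq.1 hte
      simpa using mul_mem ht (hZT h4)
    have h5 : orderOf w ∣ 8 := hcardT ▸ Subgroup.orderOf_dvd_natCard _ hwT
    exact orderOf_eq_one_iff.1
      (Nat.eq_one_of_dvd_coprimes (by norm_num) (orderOf_dvd_of_pow_eq_one h3) h5)
  · right
    refine Cfsg.Agent.S3378.result.1 G (by rw [hcardG, h60]) (fun hs => ?_) fun P => ?_
    · haveI := hs
      haveI : Group.IsSolvable (G ⧸ Z) := Group.isSolvable_of_surjective hfs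
      have h5 : Group.IsSolvable (alternatingGroup (Fin 5)) :=
        Group.isSolvable_of_surjective (f := e5.toMonoidHom) e5.surjective
      haveI := h5
      haveI : Group.IsSolvable (Equiv.Perm (Fin 5) ⧸ alternatingGroup (Fin 5)) := by
        refine Group.isSolvable_of_comm fun a b => ?_
        haveI : IsCyclic (Equiv.Perm (Fin 5) ⧸ alternatingGroup (Fin 5)) :=
          isCyclic_of_prime_card (p := 2) (by
            rw [← index_eq_card]; exact alternatingGroup.index_eq_two)
        exact (IsCyclic.isMulCommutative (α := Equiv.Perm (Fin 5) ⧸ alternatingGroup (Fin 5))).is_comm.comm a b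
      exact Equiv.Perm.not_solvable _ (by simp) (solvable_of_ker_le_range
        (alternatingGroup (Fin 5)).subtype (QuotientGroup.mk' (alternatingGroup (Fin 5))) (by simp))
    · obtain ⟨g, hg⟩ := MulAction.exists_smul_eq G T P
      rw [← hg]
      exact ⟨(Subgroup.equivSMul (MulAut.conj g) (T : Subgroup G)).symm.trans e⟩
  · omega

end CfsgLib.CGroup
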