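import Cfsg.Agent.Lib.CGroup.Local

/-!
The fixed points of a Sylow subgroup of the common part, and the two resulting cases.
-/

set_option autoImplicit false
set_option linter.unusedSectionVars false
set_option linter.style.haveILetI false

namespace CfsgLib.CGroup

open Subgroup CfsgLib.Involutions
open CfsgLib.StrongEmbedding (exists_fixed fixed_unique smul_self_of_involution)
open CfsgLib.StrongEmbedding.ElementaryCentralizers (normT base twoStab involution_mem_T mem_twoStab
  mem_normT_iff)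

universe u

variable {G : Type u} [Group G] [Finite G] {T : Sylow 2 G} {n : ℕ}

/-- The points fixed by `A`. -/
def fixSet (T : Sylow 2 G) (A : Subgroup G) : Set (G ⧸ normT T) := {v | ∀ x ∈ A, x • v = v}

theorem fixSet_invariant {A : Subgroup G} {g : G} (hg : g ∈ normalizer (A : Set G))
    {v : G ⧸ normT T} (hv : v ∈ fixSet T A) : g • v ∈ fixSet T A := by
  intro x hx
  have h1 := hv _ ((mem_normalizer_iff''.1 hg x).1 hx)
  rw [mul_smul, mul_smul, inv_smul_eq_iff] at h1
  exact h1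

namespace Setup

variable (h : Setup T n)
include h

variable {y : G ⧸ normT T}

theorem mem_fixSet_base {A : Subgroup G} (hA : A ≤ pairCore T y) : base T ∈ fixSet T A :=
  fun _ hx => (mem_twoStab.1 (hA hx).1).1

theorem mem_fixSet_self {A : Subgroup G} (hA : A ≤ pairCore T y) : y ∈ fixSet T A :=
  fun _ hx => (mem_twoStab.1 (hA hx).1).2

theorem T_le_centralizer {A : Subgroup G} (hA : A ≤ pairCore T y) :
    (T : Subgroup G) ≤ centralizer (A : Set G) :=
  fun _ ht => mem_centralizer_iff.2 fun _ hx => (commute_oddCent (hA hx).2 ht).symm.eq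

theorem fix_involution_mem {A : Subgroup G} (hy : y ≠ base T) (hA : A ≤ pairCore T y) {t : G}
    (ht : orderOf t = 2) (hty : t • y = y) : t ∈ centralizer (A : Set G) :=
  mem_centralizer_iff.2 fun _ hx => (h.commute_pairCore hy (hA hx) ht hty).symm.eq

/-- A Sylow subgroup of the common part fixes only `base T` and a `T`-orbit. -/
theorem fixSet_eq (hI : ProperProp G) (hO : Cfsg.oddCore G = ⊥) (hy : y ≠ base T) {a : ℕ}
    [Fact a.Prime] {A : Subgroup G} (hA : A ≤ pairCore T y) (hA1 : A ≠ ⊥)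
    (hconj : ∀ B : Subgroup G, B ≤ pairCore T y → IsPGroup a B → Nat.card B = Nat.card A →
      ∃ s ∈ pairCore T y, B = A.map (MulAut.conj s).toMonoidHom)
    (hAa : IsPGroup a A) {c : G ⧸ normT T} (hc : c ∈ fixSet T A) (hcb : c ≠ base T) :
    ∃ t ∈ (T : Subgroup G), c = t • y := by
  obtain ⟨σ, hσ, hσy⟩ := h.exists_swap hy
  obtain ⟨σ', -, -, -, hdD, hdc⟩ := h.exists_inverted hy hσ hσy
  set d₀ := σ * σ'
  obtain ⟨g, hg1, hg2⟩ := h.trans_others (base T) y c hy hcb
  have hdN := pow_mem (mem_normT_iff.2 (mem_twoStab.1 hdD).1)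
  obtain ⟨k, hk⟩ := h.exists_pow_mul (mem_normT_iff.2 (mem_twoStab.1 hdD).1) hdc
    (mem_normT_iff.2 hg1)
  have hmem : d₀ ^ k * ((d₀ ^ k)⁻¹ * g) * (d₀ ^ k)⁻¹ ∈ centralizer ((T : Subgroup G) : Set G) := by
    refine mem_centralizer_iff.2 fun t ht => ?_
    have h1 := mem_centralizer_iff.1 hk _ ((mem_normalizer_iff''.1 (hdN k) t).1 ht)
    calc _ = d₀ ^ k * (((d₀ ^ k)⁻¹ * t * d₀ ^ k) * ((d₀ ^ k)⁻¹ * g)) * (d₀ ^ k)⁻¹ := by group
      _ = _ := by rw [h1]; group
  obtain ⟨t, ht, x, hx, htx⟩ := h.exists_decomp hmem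
  have hst : d₀ ∈ MulAction.stabilizer G y := (mem_twoStab.1 hdD).2
  have hcx : c = t • (x • y) := by
    rw [← mul_smul, ← htx, mul_smul, (inv_mem (pow_mem hst k) : (d₀ ^ k)⁻¹ • y = y),
      mul_inv_cancel_left, hg2]
  refine ⟨t, ht, ?_⟩
  -- the point `x • y` is fixed by `A`
  have hxy : ∀ z ∈ A, z • (x • y) = x • y := by
    intro z hz
    have h1 : z • c = c := hc z hz
    rw [hcx, ← mul_smul, ← (commute_oddCent (hA hz).2 ht).eq, mul_smul] at h1
    exact smul_left_cancel t h1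
  set B := A.map (MulAut.conj x⁻¹).toMonoidHom with hB
  have hBR : B ≤ pairCore T y := by
    rintro _ ⟨z, hz, rfl⟩
    have hmemX : x⁻¹ * z * x⁻¹⁻¹ ∈ oddCent T :=
      mul_mem (mul_mem (inv_mem hx) (hA hz).2) (by simpa using hx)
    refine ⟨mem_twoStab.2 ⟨h.oddCent_fix_base hmemX, ?_⟩, hmemX⟩
    show (x⁻¹ * z * x⁻¹⁻¹) • y = y
    rw [inv_inv, mul_smul, mul_smul, hxy z hz, inv_smul_smul]
  obtain ⟨s, hs, hsB⟩ := hconj B hBR (hAa.map _)
    (card_map_of_injective (MulAut.conj x⁻¹).injective)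
  have hxs : x * s ∈ normalizer (A : Set G) := by
    refine CfsgLib.Coprime.mem_normalizer_of_forall_conj fun z hz => ?_
    have h1 : s * z * s⁻¹ ∈ B := hsB ▸ ⟨z, hz, rfl⟩
    obtain ⟨w, hw, hwe⟩ := h1
    have : w = x * s * z * (x * s)⁻¹ := by
      have e : x⁻¹ * w * x⁻¹⁻¹ = s * z * s⁻¹ := hwe
      calc w = x * (x⁻¹ * w * x⁻¹⁻¹) * x⁻¹ := by group
        _ = _ := by rw [e]; group
    exact this ▸ hw
  have h2 := h.normalizer_inf_le hI hO hy hA hA1 ⟨hxs, mul_mem hx hs.2⟩
  have hxR : x ∈ pairCore T y := by simpa using mul_mem h2 (inv_mem hs)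
  rw [hcx, (mem_twoStab.1 hxR.1).2]

theorem centralizer_transitive (hy : y ≠ base T) {A : Subgroup G} (hA : A ≤ pairCore T y)
    (hfix : ∀ c ∈ fixSet T A, c ≠ base T → ∃ t ∈ (T : Subgroup G), c = t • y) :
    ∀ c ∈ fixSet T A, ∃ m ∈ centralizer (A : Set G), m • base T = c := by
  intro c hc
  by_cases hcb : c = base T
  · exact ⟨1, one_mem _, by rw [one_smul, hcb]⟩
  obtain ⟨t₀, ht₀, ht1⟩ := h.exists_involution
  obtain ⟨g, hg⟩ := MulAction.exists_smul_eq G (base T) y
  set u := g * t₀ * g⁻¹ with hu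
  have hu2 : orderOf u = 2 := (orderOf_conj_eq g t₀).trans (h.involution ht₀ ht1)
  have huy : u • y = y := h.conj_fixes hg ht₀
  have huC := h.fix_involution_mem hy hA hu2 huy
  have hub : u • base T ≠ base T := fun e => hy (fixed_unique h.stronglyEmbedded hu2 huy e)
  obtain ⟨t, ht, htu⟩ := hfix (u • base T)
    (fixSet_invariant (centralizer_le_normalizer _ huC) (h.mem_fixSet_base hA)) hub
  obtain ⟨t', ht', htc⟩ := hfix c hc hcb
  refine ⟨t' * t⁻¹ * u, mul_mem (mul_mem (h.T_le_centralizer hA ht')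
    (inv_mem (h.T_le_centralizer hA ht))) huC, ?_⟩
  rw [mul_smul, mul_smul, htu, inv_smul_smul, htc]

theorem ncard_fixSet (hy : y ≠ base T) {A : Subgroup G} (hA : A ≤ pairCore T y)
    (hfix : ∀ c ∈ fixSet T A, c ≠ base T → ∃ t ∈ (T : Subgroup G), c = t • y) :
    (fixSet T A).ncard = 2 ^ n + 1 := by
  have heq : fixSet T A = insert (base T) ((fun t : G => t • y) '' (T : Subgroup G)) := by
    ext c
    constructor
    · intro hc
      by_cases hcb : c = base T
      · exact Set.mem_insert_iff.2 (Or.inl hcb)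
      · obtain ⟨t, ht, e⟩ := hfix c hc hcb
        exact Set.mem_insert_iff.2 (Or.inr ⟨t, ht, e.symm⟩)
    · rintro (rfl | ⟨t, ht, rfl⟩)
      · exact h.mem_fixSet_base hA
      · exact fixSet_invariant (centralizer_le_normalizer _ (h.T_le_centralizer hA ht))
          (h.mem_fixSet_self hA)
  rw [heq, Set.ncard_insert_of_notMem, Set.InjOn.ncard_image]
  · show Nat.card (T : Subgroup G) + 1 = _
    rw [h.card_T]
  · intro t ht t' ht' (e : t • y = t' • y)
    by_contra hne
    exact h.T_free (mul_mem (inv_mem ht') ht) (fun e' => hne (inv_mul_eq_one.1 e').symm) hy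
      (by rw [mul_smul, e, inv_smul_smul])
  · rintro ⟨t, ht, e⟩
    exact hy (smul_left_cancel t (e.trans (h.fix_base_of_mem (le_normalizer ht)).symm))

/-- The case `a ∣ q + 1`: a real element. -/
theorem false_of_dvd (hy : y ≠ base T) {a : ℕ} [ha : Fact a.Prime] (ha2 : a ≠ 2)
    {A : Subgroup G} (hA : A ≤ pairCore T y) (hAw : a ∣ Nat.card A)
    (hfix : ∀ c ∈ fixSet T A, c ≠ base T → ∃ t ∈ (T : Subgroup G), c = t • y)
    (hdvd : a ∣ 2 ^ n + 1) : False := by
  set M := centralizer (A : Set G)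
  have hMN : M ≤ normalizer (A : Set G) := centralizer_le_normalizer _
  have horb : MulAction.orbit M (base T) = fixSet T A := by
    ext c
    constructor
    · rintro ⟨m, rfl⟩
      exact fixSet_invariant (hMN m.2) (h.mem_fixSet_base hA)
    · intro hc
      obtain ⟨m, hm, e⟩ := h.centralizer_transitive hy hA hfix c hc
      exact ⟨⟨m, hm⟩, e⟩
  have hidx : a ∣ (MulAction.stabilizer M (base T)).index := by
    rw [MulAction.index_stabilizer, horb, h.ncard_fixSet hy hA hfix]
    exact hdvd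
  obtain ⟨S⟩ : Nonempty (Sylow a M) := inferInstance
  obtain ⟨⟨y₀, hy₀M⟩, hy₀S, hy₀⟩ : ∃ m ∈ (S : Subgroup M), m ∉ MulAction.stabilizer M (base T) := by
    by_contra! hall
    exact S.not_dvd_index (hidx.trans (index_dvd_of_le hall))
  replace hy₀ : y₀ • base T ≠ base T := hy₀
  obtain ⟨l, hl⟩ := IsPGroup.iff_orderOf.1 S.isPGroup' ⟨_, hy₀S⟩
  rw [orderOf_mk, orderOf_mk] at hl
  have hy₀odd : Odd (orderOf y₀) := by
    rw [hl]; exact (ha.out.odd_of_ne_two ha2).pow
  have hstab : ∀ {g : G} {v : G ⧸ normT T} (k : ℕ), g • v = v → g ^ k • v = v :=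
    fun {g v} k e => (pow_mem (show g ∈ MulAction.stabilizer G v from e) k :)
  set z := y₀ • base T with hz
  set w := y₀ • z with hw
  have hzF : z ∈ fixSet T A := fixSet_invariant (hMN hy₀M) (h.mem_fixSet_base hA)
  have hwb : w ≠ base T := by
    intro e
    apply hy₀
    obtain ⟨j, hj⟩ := hy₀odd
    have h1 : (y₀ * y₀) ^ (j + 1) • base T = base T :=
      hstab _ (by rw [mul_smul]; exact e)
    rwa [← pow_two, ← pow_mul, show 2 * (j + 1) = (2 * j + 1) + 1 by ring, pow_succ, ← hj,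
      pow_orderOf_eq_one, one_mul] at h1
  have hwz : w ≠ z := fun e => hy₀ (smul_left_cancel y₀ e)
  -- an involution fixing `z` and mapping `base T` to `w`
  obtain ⟨m, hm, hmz⟩ := h.centralizer_transitive hy hA hfix z hzF
  have hmi : m⁻¹ ∈ normalizer (A : Set G) := hMN (inv_mem hm)
  obtain ⟨t₁, ht₁, e₁⟩ := hfix (m⁻¹ • base T) (fixSet_invariant hmi (h.mem_fixSet_base hA))
    (fun e => hy₀ (by rw [inv_smul_eq_iff, hmz] at e; exact e.symm))
  obtain ⟨t₂, ht₂, e₂⟩ := hfix (m⁻¹ • w) (fixSet_invariant hmi (fixSet_invariant (hMN hy₀M) hzF))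
    (fun e => hwz (by rw [inv_smul_eq_iff, hmz] at e; exact e))
  rw [inv_smul_eq_iff] at e₁ e₂
  set s := m * (t₂ * t₁⁻¹) * m⁻¹ with hs
  have hsb : s • base T = w := by
    rw [hs, mul_smul, mul_smul, e₁, inv_smul_smul, mul_smul, inv_smul_smul, ← e₂]
  have hsz : s • z = z := h.conj_fixes hmz (mul_mem ht₂ (inv_mem ht₁))
  have hne : t₂ * t₁⁻¹ ≠ 1 := by
    intro e
    apply hwb
    rw [e₂, e₁, mul_inv_eq_one.1 e]
  have hs2 : orderOf s = 2 :=
    (orderOf_conj_eq m _).trans (h.involution (mul_mem ht₂ (inv_mem ht₁)) hne)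
  set g := s * y₀ with hg
  have hg1 : g • base T = z := by rw [hg, mul_smul, ← hz, hsz]
  have hg2 : g • z = base T := by
    rw [hg, mul_smul, ← hw, ← hsb, smul_self_of_involution hs2]
  have hgm : g ∈ normalizer (A : Set G) := by
    refine mul_mem (mul_mem (mul_mem (hMN hm) ?_) hmi) (hMN hy₀M)
    exact hMN (mul_mem (h.T_le_centralizer hA ht₂) (inv_mem (h.T_le_centralizer hA ht₁)))
  have hzb : base T ≠ z := Ne.symm hy₀
  -- the square fixes every point of the set
  have hrb : (g * g) • base T = base T := by rw [mul_smul, hg1, hg2]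
  have hrz : (g * g) • z = z := by rw [mul_smul, hg2, hg1]
  have hr : ∀ c ∈ fixSet T A, (g * g) • c = c := by
    intro c hc
    by_cases hcb : c = base T
    · rw [hcb, hrb]
    obtain ⟨t, ht, rfl⟩ := hfix c hc hcb
    obtain ⟨t', ht', e'⟩ := hfix z hzF hy₀
    have hcz : t • y = (t * t'⁻¹) • z := by rw [mul_smul, e', inv_smul_smul]
    have hcomm : Commute (t * t'⁻¹) (g * g) := by
      by_cases h1 : t * t'⁻¹ = 1
      · rw [h1]; exact Commute.one_left _
      have hmemT := mul_mem ht (inv_mem ht')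
      exact h.swap_sq_commute hzb hg1 hg2 (h.involution hmemT h1)
        (h.fix_base_of_mem (le_normalizer hmemT))
    rw [hcz, ← mul_smul, ← hcomm.eq, mul_smul, hrz]
  -- the odd power of `g` is an involution
  obtain ⟨e, he, he2⟩ := h.exists_odd_pow_sq g
  obtain ⟨j, rfl⟩ := he
  set u := g ^ (2 * j + 1) with hu
  have hrpow : ∀ c ∈ fixSet T A, (g ^ (2 * j)) • c = c := by
    intro c hc
    rw [pow_mul, pow_two]
    exact hstab _ (hr c hc)
  have hu1 : u • base T = z := by
    rw [hu, pow_succ', mul_smul, hrpow _ (h.mem_fixSet_base hA), hg1]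
  have hu2 : orderOf u = 2 := by
    refine orderOf_eq_prime he2 fun e => hzb ?_
    rw [← hu1, e, one_smul]
  set v := s * u with hv
  have hvact : ∀ c ∈ fixSet T A, v • c = y₀ • c := by
    intro c hc
    rw [hv, mul_smul s u c, hu, pow_succ', mul_smul g (g ^ (2 * j)) c, hrpow c hc, hg,
      mul_smul s y₀ c, smul_self_of_involution hs2]
  have hvpow : ∀ k : ℕ, v ^ k • base T = y₀ ^ k • base T := by
    intro k
    induction k with
    | zero => simp
    | succ k ih =>
      rw [pow_succ', mul_smul v, ih, pow_succ', mul_smul y₀]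
      refine hvact _ (fixSet_invariant (hMN (pow_mem hy₀M k)) (h.mem_fixSet_base hA))
  have hadvd : a ∣ orderOf v := by
    by_contra hnd
    apply hy₀
    have h1 := hvpow (orderOf v)
    rw [pow_orderOf_eq_one, one_smul] at h1
    have hcop : Nat.Coprime (orderOf v) (orderOf y₀) := by
      rw [hl]; exact ((ha.out.coprime_iff_not_dvd.2 hnd).symm).pow_right l
    obtain ⟨k, hk⟩ := exists_pow_eq_self_of_coprime hcop
    rw [hz, ← hk]
    exact hstab k h1.symm
  obtain ⟨⟨x, hxA⟩, hxo⟩ := exists_prime_orderOf_dvd_card' (G := A) a hAw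
  rw [orderOf_mk] at hxo
  obtain ⟨t, ht, ht1⟩ := h.exists_involution
  exact h.noReal.not_both ha.out ha2 (dvd_of_eq hxo.symm) (h.involution ht ht1)
    (commute_oddCent (hA hxA).2 ht) hadvd hs2 (left_inverts_prod hs2 hu2)

end Setup

end CfsgLib.CGroup
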