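import Cfsg.Agent.Lib.CGroup.Model
import Cfsg.Agent.Lib.PSL2.Recognition

/-!
The group induced on an elementary abelian Sylow two-subgroup, and the case of a normal one.
-/

set_option autoImplicit false
set_option linter.unusedSectionVars false
set_option linter.style.haveILetI false

namespace CfsgLib.CGroup

open Subgroup CfsgLib.Involutions
open CfsgLib.StrongEmbedding.ElementaryCentralizers (normT)

universe u

/-- A group with a central Sylow `p`-subgroup splits over it. -/
theorem card_eq_of_central_sylow {K : Type u} [Group K] [Finite K] (P : Sylow 2 K)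
    (hP : (P : Subgroup K) ≤ center K) :
    Nat.card K = Nat.card P * Nat.card (Cfsg.oddCore K) := by
  have : Fact (Nat.Prime 2) := ⟨Nat.prime_two⟩
  obtain ⟨S, N, hN, hc⟩ := CfsgLib.Transfer.hasNormalPComplement_of_normalizer_le P
    (fun g _ => mem_centralizer_iff.2 fun x hx => ((mem_center_iff.1 (hP hx)) g).symm)
  have hodd : ¬ 2 ∣ Nat.card N := by
    intro h2
    apply S.not_dvd_index
    rwa [hc.index_eq_card]
  have h1 : Nat.card N ≤ Nat.card (Cfsg.oddCore K) :=
    Nat.le_of_dvd Nat.card_pos (card_dvd_of_le (CfsgLib.PCore.le_pPrimeCore_of_not_dvd hN hodd))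
  have hS : Nat.card S = Nat.card P :=
    (Sylow.card_eq_multiplicity S).trans (Sylow.card_eq_multiplicity P).symm
  have h2 : Nat.card P * Nat.card (Cfsg.oddCore K) ∣ Nat.card K := by
    obtain ⟨k, hk⟩ := IsPGroup.iff_card.1 P.isPGroup'
    refine Nat.Coprime.mul_dvd_of_dvd_of_dvd ?_ (card_subgroup_dvd_card _) (card_subgroup_dvd_card _)
    rw [hk]
    exact (Nat.coprime_two_left.2 (odd_card_oddCore K)).pow_left k
  refine le_antisymm ?_ (Nat.le_of_dvd Nat.card_pos h2)
  rw [← hc.card_mul, hS, mul_comm]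
  exact Nat.mul_le_mul_left _ h1

variable {G : Type u} [Group G] [Finite G] {T : Sylow 2 G} {n : ℕ}

theorem card_quotient_normT (hab : ∀ x ∈ (T : Subgroup G), ∀ y ∈ (T : Subgroup G), x * y = y * x)
    (hcard : Nat.card (T : Subgroup G) = 2 ^ n) :
    Nat.card (normT T ⧸ Cfsg.pPrimeCore 2 (normT T)) =
      2 ^ n * (centralizer ((T : Subgroup G) : Set G)).relIndex (normT T) := by
  have : Fact (Nat.Prime 2) := ⟨Nat.prime_two⟩
  set N := normT T with hN
  set C' := (centralizer ((T : Subgroup G) : Set G)).subgroupOf N with hC'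
  haveI : C'.Normal := by
    rw [hC', hN]
    show (subgroupOf _ (normalizer ((T : Subgroup G) : Set G))).Normal
    rw [← normalizerMonoidHom_ker]
    infer_instance
  set TN : Sylow 2 N := T.subtype le_normalizer
  haveI hTNn : (TN : Subgroup N).Normal := normal_in_normalizer
  have hTC : (T : Subgroup G) ≤ centralizer ((T : Subgroup G) : Set G) :=
    fun x hx => mem_centralizer_iff.2 fun y hy => hab y hy x hx
  have hTC' : (TN : Subgroup N) ≤ C' := fun x hx => hTC hx
  let TC : Sylow 2 C' := TN.subtype hTC'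
  have hcen : (TC : Subgroup C') ≤ center C' := by
    intro x hx
    refine mem_center_iff.2 fun g => Subtype.ext (Subtype.ext ?_)
    exact (mem_centralizer_iff.1 g.2 _ hx).symm
  have hO : Cfsg.oddCore N ≤ C' := by
    intro x hx
    refine mem_centralizer_iff.2 fun t ht => ?_
    have h1 : (⟨t, le_normalizer ht⟩ : N) * x * (⟨t, le_normalizer ht⟩ : N)⁻¹ * x⁻¹ ∈
        (TN : Subgroup N) ⊓ Cfsg.oddCore N := by
      refine ⟨?_, Subgroup.mul_mem _ ((inferInstance : (Cfsg.oddCore N).Normal).conj_mem x hx _)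
        (Subgroup.inv_mem _ hx)⟩
      rw [mul_assoc, mul_assoc]
      refine mul_mem (show (⟨t, le_normalizer ht⟩ : N) ∈ (TN : Subgroup N) from ht) ?_
      rw [← mul_assoc]
      exact hTNn.conj_mem _ (Subgroup.inv_mem _ (show (⟨t, le_normalizer ht⟩ : N) ∈ (TN : Subgroup N) from ht)) x
    rw [CfsgLib.PCore.inf_eq_bot_of_isPGroup_coprime TN.isPGroup'
      CfsgLib.PCore.pPrimeCore_coprime, mem_bot, mul_inv_eq_one, mul_inv_eq_iff_eq_mul] at h1
    exact congrArg Subtype.val h1
  have hOC : Nat.card (Cfsg.oddCore C') = Nat.card (Cfsg.oddCore N) := by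
    have := CfsgLib.PCore.map_pPrimeCore_subtype_of_normal (p := 2) C'
    rw [inf_eq_right.2 hO] at this
    rw [← card_map_of_injective (subtype_injective C')]
    exact congrArg (fun H : Subgroup N => Nat.card H) this
  have hTc : Nat.card (TC : Subgroup C') = 2 ^ n := by
    rw [← hcard]
    exact ((Nat.card_congr (subgroupOfEquivOfLe hTC').toEquiv).trans
      (Nat.card_congr (subgroupOfEquivOfLe (le_normalizer (H := (T : Subgroup G)))).toEquiv))
  have hC := card_eq_of_central_sylow TC hcen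
  rw [hTc, hOC] at hC
  have h1 := (Cfsg.pPrimeCore 2 N).card_mul_index
  rw [← C'.card_mul_index, hC, index_eq_card (Cfsg.pPrimeCore 2 N)] at h1
  have hpos : 0 < Nat.card (Cfsg.oddCore N) := Nat.card_pos
  refine Nat.eq_of_mul_eq_mul_left hpos (h1.trans ?_)
  rw [relIndex, ← hC']
  ring

theorem relIndex_not_even (hab : ∀ x ∈ (T : Subgroup G), ∀ y ∈ (T : Subgroup G), x * y = y * x) :
    ¬ 2 ∣ (centralizer ((T : Subgroup G) : Set G)).relIndex (normT T) := by
  have : Fact (Nat.Prime 2) := ⟨Nat.prime_two⟩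
  intro h2
  apply T.not_dvd_index
  rw [← relIndex_mul_index (le_normalizer : (T : Subgroup G) ≤ normT T)]
  refine Dvd.dvd.mul_right (h2.trans ?_) _
  refine relIndex_dvd_of_le_left _ fun x hx => mem_centralizer_iff.2 fun y hy => hab y hy x hx

/-- Any two involutions are conjugate. -/
theorem CGrp.isConj_involutions (hC : CGrp G) {s t : G} (hs : orderOf s = 2) (ht : orderOf t = 2) :
    ∃ g : G, g * s * g⁻¹ = t := by
  obtain ⟨g, hg⟩ := hC (zpowers s) (zpowers t) (by rw [Nat.card_zpowers, Nat.card_zpowers, hs, ht])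
  refine ⟨g, ?_⟩
  obtain ⟨w, hw, hwe⟩ : t ∈ (zpowers s).map (MulAut.conj g).toMonoidHom := hg ▸ mem_zpowers t
  obtain ⟨k, rfl⟩ := mem_zpowers_iff.1 hw
  rw [zpow_eq_zpow_emod' (n := 2) k (by rw [← hs]; exact pow_orderOf_eq_one s)] at hwe
  have hk : k % ((2 : ℕ) : ℤ) = 0 ∨ k % ((2 : ℕ) : ℤ) = 1 := by omega
  rcases hk with e | e <;> rw [e] at hwe
  · rw [zpow_zero, map_one] at hwe
    rw [← hwe, orderOf_one] at ht
    omega
  · rw [zpow_one] at hwe
    exact hwe

theorem solvable_normT (hab : ∀ x ∈ (T : Subgroup G), ∀ y ∈ (T : Subgroup G), x * y = y * x) :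
    Group.IsSolvable (normT T) := by
  have : Fact (Nat.Prime 2) := ⟨Nat.prime_two⟩
  set TN : Sylow 2 (normT T) := T.subtype le_normalizer
  haveI : (TN : Subgroup (normT T)).Normal := normal_in_normalizer
  haveI : Group.IsSolvable (TN : Subgroup (normT T)) := Group.isSolvable_of_comm fun a b =>
    Subtype.ext (Subtype.ext (hab _ a.2 _ b.2))
  have hodd : Odd (Nat.card (normT T ⧸ (TN : Subgroup (normT T)))) := by
    rw [← Nat.not_even_iff_odd, even_iff_two_dvd, ← index_eq_card]
    exact TN.not_dvd_index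
  haveI := CfsgLib.PF.oddSolvable _ hodd
  exact solvable_of_ker_le_range (TN : Subgroup (normT T)).subtype
    (QuotientGroup.mk' (TN : Subgroup (normT T))) (by simp)

/-- The possible orders of the group induced on `T` by its normaliser. -/
theorem index_cases (hC : CGrp G) (hel : Cfsg.IsElementaryAbelian 2 (T : Subgroup G))
    (hcard : Nat.card (T : Subgroup G) = 2 ^ n) (hn : 2 ≤ n) :
    (n = 2 ∧ (centralizer ((T : Subgroup G) : Set G)).relIndex (normT T) = 3) ∨
    (n = 3 ∧ ((centralizer ((T : Subgroup G) : Set G)).relIndex (normT T) = 7 ∨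
      (centralizer ((T : Subgroup G) : Set G)).relIndex (normT T) = 21)) ∨
    (n = 5 ∧ (centralizer ((T : Subgroup G) : Set G)).relIndex (normT T) = 155) := by
  classical
  have : Fact (Nat.Prime 2) := ⟨Nat.prime_two⟩
  have hab : ∀ x ∈ (T : Subgroup G), ∀ y ∈ (T : Subgroup G), x * y = y * x := fun x hx y hy =>
    congrArg Subtype.val (hel.1.is_comm.comm ⟨x, hx⟩ ⟨y, hy⟩)
  have hq := card_quotient_normT hab hcard
  set idx := (centralizer ((T : Subgroup G) : Set G)).relIndex (normT T) with hidx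
  by_cases h3 : 3 ≤ n
  · haveI := solvable_normT (T := T) hab
    rcases Cfsg.Agent.S4025.result (fun H K _ _ => hC H K) T n h3 hel hcard (normT T) rfl
        inferInstance with ⟨rfl, -, h⟩ | ⟨rfl, -, ⟨e⟩⟩
    · refine Or.inr (Or.inl ⟨rfl, ?_⟩)
      rcases h rfl with ⟨⟨e⟩⟩ | ⟨⟨e⟩⟩
      · have h1 := Nat.card_congr e.toEquiv
        rw [hq, Cfsg.Agent.S4025.card_semiaffine 2 3 (by norm_num)] at h1
        right; omega
      · have h1 := Nat.card_congr e.toEquiv
        rw [hq, card_affine 3 (by norm_num)] at h1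
        left; omega
    · refine Or.inr (Or.inr ⟨rfl, ?_⟩)
      have h1 := Nat.card_congr e.toEquiv
      rw [hq, Cfsg.Agent.S4025.card_semiaffine 2 5 (by norm_num)] at h1
      omega
  refine Or.inl ⟨by omega, ?_⟩
  obtain rfl : n = 2 := by omega
  set ψ := (T : Subgroup G).normalizerMonoidHom
  have hR : Nat.card ψ.range = idx := by
    rw [hidx, relIndex, ← Subgroup.index_ker, normalizerMonoidHom_ker]
  -- the automorphisms permute the three involutions
  let Inv := {x : (T : Subgroup G) // x ≠ 1}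
  let π : ψ.range →* Equiv.Perm Inv :=
    { toFun := fun r => (r : MulAut (T : Subgroup G)).toEquiv.subtypeEquiv fun x => by simp
      map_one' := Equiv.ext fun x => Subtype.ext rfl
      map_mul' := fun a b => Equiv.ext fun x => Subtype.ext rfl }
  have hπ : Function.Injective π := by
    intro a b e
    refine Subtype.ext (MulEquiv.ext fun x => ?_)
    by_cases hx : x = 1
    · rw [hx, map_one, map_one]
    exact congrArg Subtype.val (Equiv.ext_iff.1 e ⟨x, hx⟩)
  have hdvd : idx ∣ 6 := by
    rw [← hR]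
    refine (card_dvd_of_injective π hπ).trans ?_
    haveI := Fintype.ofFinite (T : Subgroup G)
    rw [Nat.card_perm, Nat.card_eq_fintype_card, Fintype.card_subtype_compl,
      Fintype.card_subtype_eq, ← Nat.card_eq_fintype_card, hcard]
    decide
  have hne : idx ≠ 1 := by
    intro e
    -- two involutions of `T` are conjugate in the normaliser
    haveI : Nontrivial (T : Subgroup G) :=
      Finite.one_lt_card_iff_nontrivial.1 (by rw [hcard]; norm_num)
    obtain ⟨⟨s, hs⟩, hs1⟩ := exists_ne (1 : (T : Subgroup G))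
    obtain ⟨t, ht, ht1, hts⟩ : ∃ t ∈ (T : Subgroup G), t ≠ 1 ∧ t ≠ s := by
      by_contra! hall
      have hsub : ((T : Subgroup G) : Set G) ⊆ {1, s} := fun t ht => by
        by_cases h1 : t = 1
        · exact Or.inl h1
        · exact Or.inr (hall t ht h1)
      have := Set.ncard_le_ncard hsub (Set.toFinite _)
      rw [Set.ncard_pair (show (1 : G) ≠ s from fun e => hs1 (Subtype.ext e.symm)), ← Nat.card_coe_set_eq,
        show Nat.card ↑((T : Subgroup G) : Set G) = 4 from hcard] at this
      omega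
    have hs2 : orderOf s = 2 := orderOf_eq_prime (hel.2 s hs) fun e => hs1 (Subtype.ext e)
    have ht2 : orderOf t = 2 := orderOf_eq_prime (hel.2 t ht) ht1
    obtain ⟨g, hg⟩ := hC (zpowers s) (zpowers t) (by rw [Nat.card_zpowers, Nat.card_zpowers, hs2, ht2])
    obtain ⟨m, hm, hmst⟩ :=
      Cfsg.Agent.S4025.fusion T hab (zpowers_le.2 hs) (zpowers_le.2 ht) g hg
    have hmC : m ∈ centralizer ((T : Subgroup G) : Set G) :=
      relIndex_eq_one.1 e hm
    have h1 := hmst s (mem_zpowers s)
    rw [← mem_centralizer_iff.1 hmC s hs, mul_inv_cancel_right] at h1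
    obtain ⟨k, hk⟩ := mem_zpowers_iff.1 h1
    rw [zpow_eq_zpow_emod' (n := 2) k (by rw [← ht2]; exact pow_orderOf_eq_one t)] at hk
    have hk' : k % ((2 : ℕ) : ℤ) = 0 ∨ k % ((2 : ℕ) : ℤ) = 1 := by omega
    rcases hk' with e' | e' <;> rw [e'] at hk
    · exact hs1 (Subtype.ext (by simpa using hk.symm))
    · exact hts (by simpa using hk)
  have hodd := relIndex_not_even (T := T) hab
  rw [← hidx] at hodd
  have hle := Nat.le_of_dvd (by norm_num) hdvd
  interval_cases idx <;> omega

/-- The case of a normal Sylow two-subgroup. -/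
theorem normal_case (hC : CGrp G) (hel : Cfsg.IsElementaryAbelian 2 (T : Subgroup G))
    (hcard : Nat.card (T : Subgroup G) = 2 ^ n) (hn : 2 ≤ n) (hTn : (T : Subgroup G).Normal)
    (hO : Cfsg.oddCore G = ⊥) :
    (n = 2 ∧ Nat.card G = 12 ∧ centralizer ((T : Subgroup G) : Set G) = (T : Subgroup G) ∧
      Nonempty (G ≃* alternatingGroup (Fin 4))) ∨
    Nonempty (G ≃* Cfsg.affineGroup (GaloisField 2 3)) ∨
    Nonempty (G ≃* Cfsg.semiaffineGroup (GaloisField 2 3)) ∨
    Nonempty (G ≃* Cfsg.semiaffineGroup (GaloisField 2 5)) := by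
  classical
  have : Fact (Nat.Prime 2) := ⟨Nat.prime_two⟩
  have hab : ∀ x ∈ (T : Subgroup G), ∀ y ∈ (T : Subgroup G), x * y = y * x := fun x hx y hy =>
    congrArg Subtype.val (hel.1.is_comm.comm ⟨x, hx⟩ ⟨y, hy⟩)
  have htop : normT T = ⊤ := normalizer_eq_top_iff.2 hTn
  let e₀ : normT T ≃* G := (MulEquiv.subgroupCongr htop).trans Subgroup.topEquiv
  have hON : Cfsg.pPrimeCore 2 (normT T) = ⊥ :=
    CfsgLib.PCore.pPrimeCore_eq_bot_of_equiv e₀.symm hO
  let e₁ : (normT T ⧸ Cfsg.pPrimeCore 2 (normT T)) ≃* G :=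
    ((QuotientGroup.quotientMulEquivOfEq hON).trans QuotientGroup.quotientBot).trans e₀
  by_cases h3 : 3 ≤ n
  · haveI := solvable_normT (T := T) hab
    rcases Cfsg.Agent.S4025.result (fun H K _ _ => hC H K) T n h3 hel hcard (normT T) rfl
        inferInstance with ⟨rfl, -, h⟩ | ⟨rfl, -, ⟨e⟩⟩
    · rcases h rfl with ⟨⟨e⟩⟩ | ⟨⟨e⟩⟩
      · exact Or.inr (Or.inr (Or.inl ⟨e₁.symm.trans e⟩))
      · exact Or.inr (Or.inl ⟨e₁.symm.trans e⟩)
    · exact Or.inr (Or.inr (Or.inr ⟨e₁.symm.trans e⟩))
  obtain rfl : n = 2 := by omega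
  left
  obtain ⟨-, hidx⟩ : 2 = 2 ∧ (centralizer ((T : Subgroup G) : Set G)).relIndex (normT T) = 3 := by
    rcases index_cases hC hel hcard hn with h | ⟨h, -⟩ | ⟨h, -⟩
    · exact h
    · omega
    · omega
  have hG : Nat.card G = 12 := by
    have h1 := card_quotient_normT hab hcard
    rw [Nat.card_congr e₁.toEquiv, hidx] at h1
    exact h1
  have hTC : (T : Subgroup G) ≤ centralizer ((T : Subgroup G) : Set G) :=
    fun x hx => mem_centralizer_iff.2 fun y hy => hab y hy x hx
  have hCc : Nat.card (centralizer ((T : Subgroup G) : Set G)) = 4 := by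
    have h1 := (centralizer ((T : Subgroup G) : Set G)).card_mul_index
    rw [show (centralizer ((T : Subgroup G) : Set G)).index = 3 by
      rw [← relIndex_top_right, ← htop]; exact hidx, hG] at h1
    omega
  have hCT : centralizer ((T : Subgroup G) : Set G) = (T : Subgroup G) :=
    (eq_of_le_of_card_ge hTC (by rw [hCc, hcard]; norm_num)).symm
  refine ⟨rfl, hG, hCT, CfsgLib.PSL2.nonempty_mulEquiv_alternating_four hG fun g hg => ?_⟩
  -- the centraliser of an involution has order four
  have hi : orderOf (g ^ 3) = 2 := by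
    rw [orderOf_pow' _ (by norm_num), hg]; norm_num
  have hiT : g ^ 3 ∈ (T : Subgroup G) :=
    CfsgLib.StrongEmbedding.ElementaryCentralizers.involution_mem_T hi (by rw [htop]; exact mem_top _)
  have hclass : (MulAction.orbit (ConjAct G) (g ^ 3)).ncard = 3 := by
    have heq : MulAction.orbit (ConjAct G) (g ^ 3) = ((T : Subgroup G) : Set G) \ {1} := by
      ext x
      constructor
      · rintro ⟨c, rfl⟩
        exact ⟨hTn.conj_mem _ hiT (ConjAct.ofConjAct c),
          fun e => ne_one_of_involution hi (conj_eq_one_iff.1 e)⟩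
      · rintro ⟨hx, hx1⟩
        obtain ⟨c, hc⟩ := hC.isConj_involutions hi (orderOf_eq_prime (hel.2 x hx) hx1)
        exact ⟨ConjAct.toConjAct c, hc⟩
    rw [heq, Set.ncard_diff_singleton_of_mem (one_mem _), ← Nat.card_coe_set_eq,
      show Nat.card ↑((T : Subgroup G) : Set G) = 4 from hcard]
  have hidx' : (MulAction.stabilizer (ConjAct G) (g ^ 3)).index = 3 := by
    rw [MulAction.index_stabilizer, hclass]
  have hst : ConjAct.toConjAct g ∈ MulAction.stabilizer (ConjAct G) (g ^ 3) := by
    show g * g ^ 3 * g⁻¹ = g ^ 3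
    group
  haveI : Finite (ConjAct G) := Finite.of_equiv G (ConjAct.toConjAct (G := G)).toEquiv
  have h4 := Subgroup.orderOf_dvd_natCard _ hst
  have hcm := (MulAction.stabilizer (ConjAct G) (g ^ 3)).card_mul_index
  rw [hidx', show Nat.card (ConjAct G) = 12 from hG] at hcm
  rw [show orderOf (ConjAct.toConjAct g) = 6 from
    (MulEquiv.orderOf_eq (ConjAct.toConjAct (G := G)) g).trans hg] at h4
  have := Nat.le_of_dvd Nat.card_pos h4
  omega

end CfsgLib.CGroup
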