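import Cfsg.Agent.Lib.CGroup.Semiregular
import Cfsg.Agent.Lib.Coprime.SchurZassenhaus
import Cfsg.Agent.S0016
import Cfsg.Agent.H79ConjSubgroups

/-!
The case of a non-trivial common part: a Sylow subgroup of it for its smallest prime gives either
a forbidden real element or a normal complement.
-/

set_option autoImplicit false
set_option linter.unusedSectionVars false
set_option linter.style.haveILetI false

namespace CfsgLib.CGroup

open Subgroup CfsgLib.Involutions
open CfsgLib.StrongEmbedding (exists_fixed fixed_unique smul_self_of_involution)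
open CfsgLib.StrongEmbedding.ElementaryCentralizers (normT base twoStab involution_mem_T mem_twoStab
  mem_normT_iff)

universe u

variable {G : Type u} [Group G] [Finite G] {T : Sylow 2 G} {n : ℕ}

namespace Setup

variable (h : Setup T n)
include h

section LocalCase

variable {y : G ⧸ normT T}

/-- No non-trivial normal `r`-subgroup of the odd centraliser meets the common part. -/
theorem normal_pgroup_inf_eq_bot (hI : ProperProp G) (hO : Cfsg.oddCore G = ⊥) (hy : y ≠ base T)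
    (hne : oddCent T ≠ ⊥) {r : ℕ} [Fact r.Prime] {F : Subgroup G} (hFX : F ≤ oddCent T)
    (hF : IsPGroup r F) (hnF : oddCent T ≤ normalizer (F : Set G)) (hF1 : F ≠ ⊥) :
    F ⊓ pairCore T y = ⊥ := by
  by_contra hB
  have hBF : F ⊓ pairCore T y = F := by
    by_contra hne'
    obtain ⟨z, hzF, hzB, hzN⟩ :=
      exists_mem_normalizer_notMem hF (lt_of_le_of_ne inf_le_left hne')
    exact hzB ⟨hzF, h.normalizer_inf_le hI hO hy inf_le_right hB ⟨hzN, hFX hzF⟩⟩
  refine hne (h.eq_bot_of_fixed hO hy fun x hx => ?_)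
  exact h.normalizer_inf_le hI hO hy (hBF ▸ inf_le_right) hF1 ⟨hnF hx, hx⟩

theorem exists_normal_pgroup (hne : oddCent T ≠ ⊥) :
    ∃ r : ℕ, r.Prime ∧ ∃ F : Subgroup G, F ≤ oddCent T ∧ IsPGroup r F ∧
      oddCent T ≤ normalizer (F : Set G) ∧ F ≠ ⊥ := by
  haveI : Nontrivial (oddCent T) := (Subgroup.nontrivial_iff_ne_bot _).2 hne
  obtain ⟨r, hr, P, hP, hPr, hP1⟩ := CfsgLib.Coprime.exists_normal_pgroup_of_solvable (oddCent T)
    (CfsgLib.PF.oddSolvable (oddCent T) odd_card_oddCent)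
  refine ⟨r, hr, P.map (oddCent T).subtype, map_subtype_le _, hPr.map _, fun x hx => ?_,
    fun e => hP1 ((map_eq_bot_iff_of_injective _ (subtype_injective _)).1 e)⟩
  refine CfsgLib.Coprime.mem_normalizer_of_forall_conj ?_
  rintro _ ⟨z, hz, rfl⟩
  exact ⟨_, hP.conj_mem z hz ⟨x, hx⟩, rfl⟩

/-- A Sylow subgroup of the common part is a maximal `a`-subgroup of the odd centraliser. -/
theorem eq_of_pgroup_le (hI : ProperProp G) (hO : Cfsg.oddCore G = ⊥) (hy : y ≠ base T) {a : ℕ}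
    [Fact a.Prime] {A : Subgroup G} (hA : A ≤ pairCore T y) (hA1 : A ≠ ⊥)
    (hmax : ∀ S : Subgroup G, IsPGroup a S → A ≤ S → S ≤ pairCore T y → S = A) {S : Subgroup G}
    (hS : IsPGroup a S) (hAS : A ≤ S) (hSX : S ≤ oddCent T) : S = A := by
  by_contra hne
  obtain ⟨z, hzS, hzA, hzN⟩ :=
    exists_mem_normalizer_notMem hS (lt_of_le_of_ne hAS (Ne.symm hne))
  have hz : z ∈ pairCore T y := h.normalizer_inf_le hI hO hy hA hA1 ⟨hzN, hSX hzS⟩
  have h1 := hmax (A ⊔ zpowers z) (hS.to_le (sup_le hAS (zpowers_le.2 hzS))) le_sup_left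
    (sup_le hA (zpowers_le.2 hz))
  exact hzA (h1 ▸ mem_sup_right (mem_zpowers z))

theorem isCyclic_sylow_pairCore (hI : ProperProp G) (hO : Cfsg.oddCore G = ⊥) (hy : y ≠ base T)
    (hne : oddCent T ≠ ⊥) {a : ℕ} [ha : Fact a.Prime] {A : Subgroup G} (hA : A ≤ pairCore T y)
    (hAa : IsPGroup a A) (hA1 : A ≠ ⊥)
    (hmax : ∀ S : Subgroup G, IsPGroup a S → A ≤ S → S ≤ pairCore T y → S = A) : IsCyclic A := by
  have ha2 : a ≠ 2 := by
    rintro rfl
    haveI : Nontrivial A := (Subgroup.nontrivial_iff_ne_bot _).2 hA1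
    obtain ⟨k, hk, hk'⟩ := hAa.nontrivial_iff_card.1 inferInstance
    have h1 : 2 ∣ Nat.card (oddCent T) :=
      (dvd_pow_self 2 hk.ne').trans ((dvd_of_eq hk'.symm).trans
        (card_dvd_of_le (hA.trans inf_le_right)))
    exact Nat.not_even_iff_odd.2 odd_card_oddCent (even_iff_two_dvd.2 h1)
  refine (Cfsg.Agent.S0016.result a hAa ?_).resolve_right (fun e => ha2 e.1)
  intro H K hH hK
  by_contra hHK
  -- a central subgroup of order `a`
  haveI : Nontrivial A := (Subgroup.nontrivial_iff_ne_bot _).2 hA1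
  haveI := hAa.center_nontrivial
  obtain ⟨⟨z, hzc⟩, hz⟩ := exists_prime_orderOf_dvd_card' (G := center A) a (by
    obtain ⟨k, hk, hk'⟩ := (hAa.to_subgroup (center A)).nontrivial_iff_card.1 inferInstance
    rw [hk']; exact dvd_pow_self a hk.ne')
  rw [orderOf_mk] at hz
  obtain ⟨L, hL, hLz⟩ : ∃ L : Subgroup A, Nat.card L = a ∧ L ≠ zpowers z := by
    by_cases h1 : H = zpowers z
    · exact ⟨K, hK, fun e => hHK (h1.trans e.symm)⟩
    · exact ⟨H, hH, h1⟩
  set W := L ⊔ zpowers z with hW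
  have hcomm : ∀ u ∈ W, ∀ v ∈ W, u * v = v * u := by
    have hLcyc : IsCyclic L := isCyclic_of_prime_card hL
    intro u hu v hv
    haveI : (zpowers z).Normal := ⟨fun c hc g => by
      obtain ⟨k, rfl⟩ := mem_zpowers_iff.1 hc
      rw [mem_center_iff.1 (zpow_mem hzc k) g, mul_inv_cancel_right]
      exact zpow_mem (mem_zpowers z) k⟩
    rw [hW, Subgroup.mem_sup_of_normal_right] at hu hv
    obtain ⟨u₁, hu₁, u₂, hu₂, rfl⟩ := hu
    obtain ⟨v₁, hv₁, v₂, hv₂, rfl⟩ := hv
    obtain ⟨i, rfl⟩ := mem_zpowers_iff.1 hu₂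
    obtain ⟨j, rfl⟩ := mem_zpowers_iff.1 hv₂
    have e1 : u₁ * v₁ = v₁ * u₁ := congrArg Subtype.val
      ((IsCyclic.isMulCommutative (α := L)).is_comm.comm ⟨u₁, hu₁⟩ ⟨v₁, hv₁⟩)
    have c1 : Commute (z ^ i) v₁ := (mem_center_iff.1 (zpow_mem hzc i) v₁).symm
    have c2 : Commute u₁ (z ^ j) := mem_center_iff.1 (zpow_mem hzc j) u₁
    exact ((Commute.mul_left (Commute.mul_right e1 c2)
      (c1.mul_right (Commute.zpow_zpow_self z i j))) : Commute (u₁ * z ^ i) (v₁ * z ^ j)).eq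
  have hnc : ¬ IsCyclic W := by
    intro hcyc
    exact hLz (H79.ConjSub.eq_of_card_eq_of_cyclic hcyc (le_sup_left : L ≤ W)
      (le_sup_right : zpowers z ≤ W) (by rw [hL, Nat.card_zpowers, hz]))
  set W' := W.map A.subtype with hW'
  haveI : IsMulCommutative W' := ⟨⟨by
    rintro ⟨_, u, hu, rfl⟩ ⟨_, v, hv, rfl⟩
    exact Subtype.ext (congrArg (fun w : A => (w : G)) (hcomm u hu v hv))⟩⟩
  have hnc' : ¬ IsCyclic W' := fun hc =>
    haveI : IsCyclic (W.map A.subtype) := hc
    hnc (isCyclic_of_surjective (W.equivMapOfInjective A.subtype (subtype_injective A)).symm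
      (MulEquiv.surjective _))
  obtain ⟨r, hr, F, hFX, hFr, hnF, hF1⟩ := h.exists_normal_pgroup hne
  haveI := Fact.mk hr
  have hFR := h.normal_pgroup_inf_eq_bot hI hO hy hne hFX hFr hnF hF1
  have hW'R : W' ≤ pairCore T y := (map_subtype_le _).trans hA
  by_cases hra : r = a
  · subst hra
    haveI : Fact r.Prime := ⟨hr⟩
    have h1 : IsPGroup r (A ⊔ F : Subgroup G) :=
      hAa.to_sup_of_normal_right' hFr ((hA.trans inf_le_right).trans hnF)
    have h2 := h.eq_of_pgroup_le hI hO hy hA hA1 hmax h1 le_sup_left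
      (sup_le (hA.trans inf_le_right) hFX)
    exact hF1 (eq_bot_iff.2 (hFR ▸ le_inf le_rfl ((le_sup_right.trans h2.le).trans hA)))
  · obtain ⟨k, hk⟩ := IsPGroup.iff_card.1 ((hAa.to_subgroup W).map A.subtype)
    obtain ⟨l, hl⟩ := IsPGroup.iff_card.1 hFr
    have hcop : (Nat.card W').Coprime (Nat.card F) := by
      rw [hk, hl]; exact ((Nat.coprime_primes ha.out hr).2 (Ne.symm hra)).pow k l
    refine hF1 (eq_bot_iff.2 ?_)
    rw [← CfsgLib.CoprimeGeneration.iSup_centralizer_eq W' F hnc'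
      ((hW'R.trans inf_le_right).trans hnF) hcop, iSup₂_le_iff]
    rintro w ⟨hw, hw1⟩ x ⟨hxF, hxw⟩
    rw [← hFR]
    refine ⟨hxF, h.normalizer_inf_le hI hO hy (A := zpowers w) (zpowers_le.2 (hW'R hw))
      (zpowers_ne_bot.2 hw1) ⟨?_, hFX hxF⟩⟩
    refine centralizer_le_normalizer _ (mem_centralizer_iff.2 fun v hv => ?_)
    obtain ⟨i, rfl⟩ := mem_zpowers_iff.1 hv
    exact (Commute.zpow_right (mem_centralizer_singleton_iff.1 hxw : Commute x w) i).symm.eq

end LocalCase

end Setup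

end CfsgLib.CGroup
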