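import Cfsg.Agent.Lib.CGroup.TheoremZ
import Cfsg.Agent.Lib.StrongEmbedding.PSLTwo
import Cfsg.Agent.Lib.ClassicalGroups.SmallIso
import Cfsg.Agent.Lib.ClassicalGroups.PermModel
import Cfsg.Agent.Lib.PSL2.Basic
import Cfsg.Agent.S0813
import Cfsg.Agent.S4025

/-!
Recognition of `PSL(2, 2^n)`, and orders of the model groups.
-/

set_option autoImplicit false
set_option linter.unusedSectionVars false
set_option linter.style.haveILetI false

namespace CfsgLib.CGroup

open Subgroup CfsgLib.Involutions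
open CfsgLib.StrongEmbedding.ElementaryCentralizers (normT base twoStab involution_mem_T mem_twoStab
  mem_normT_iff)

universe u

variable {G : Type u} [Group G] [Finite G] {T : Sylow 2 G} {n : ℕ}

namespace Setup

variable (h : Setup T n)
include h

theorem oddCent_eq_bot_of_core (hO : Cfsg.oddCore G = ⊥) : oddCent T = ⊥ :=
  eq_bot_iff.2 ((coreProp G T n h).trans hO.le)

theorem centralizer_eq (hO : Cfsg.oddCore G = ⊥) :
    centralizer ((T : Subgroup G) : Set G) = (T : Subgroup G) := by
  refine le_antisymm (fun c hc => ?_) h.le_centralizer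
  obtain ⟨t, ht, x, hx, rfl⟩ := h.exists_decomp hc
  rw [h.oddCent_eq_bot_of_core hO, mem_bot] at hx
  rw [hx, mul_one]; exact ht

theorem centralizer_singleton_eq (hO : Cfsg.oddCore G = ⊥) {t : G} (ht : t ∈ (T : Subgroup G))
    (ht1 : t ≠ 1) : centralizer ({t} : Set G) = (T : Subgroup G) := by
  refine le_antisymm (fun g hg => ?_) (fun g hg => mem_centralizer_singleton_iff.2 (h.comm hg ht).eq)
  rw [← h.centralizer_eq hO]
  exact h.transitive.2 t g ht ht1 (mem_centralizer_singleton_iff.1 hg)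

theorem iso_psl (hO : Cfsg.oddCore G = ⊥) :
    Nonempty (G ≃* Matrix.ProjectiveSpecialLinearGroup (Fin 2) (GaloisField 2 n)) := by
  have hyp : CfsgLib.StrongEmbedding.ElementaryCentralizers.Hyp T := by
    refine ⟨h.not_cyclic, h.not_normal, fun t ht => ?_⟩
    obtain ⟨v, hv⟩ := CfsgLib.StrongEmbedding.exists_fixed h.stronglyEmbedded ht
    obtain ⟨g, hg⟩ := MulAction.exists_smul_eq G (base T) v
    have hgt : orderOf (g⁻¹ * t * g) = 2 := by simpa using (orderOf_conj_eq g⁻¹ t).trans ht
    have hmem : g⁻¹ * t * g ∈ (T : Subgroup G) :=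
      (h.fixes_base_iff hgt).1 (by rw [mul_smul, mul_smul, hg, hv, ← hg, inv_smul_smul])
    have hC : ∀ c ∈ centralizer ({t} : Set G), g⁻¹ * c * g ∈ (T : Subgroup G) := by
      intro c hc
      rw [← h.centralizer_singleton_eq hO hmem (ne_one_of_involution hgt),
        mem_centralizer_singleton_iff]
      have hc' : c * t = t * c := mem_centralizer_singleton_iff.1 hc
      calc g⁻¹ * c * g * (g⁻¹ * t * g) = g⁻¹ * (c * t) * g := by group
        _ = g⁻¹ * t * g * (g⁻¹ * c * g) := by rw [hc']; group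
    refine ⟨⟨⟨fun a b => Subtype.ext ?_⟩⟩, fun c hc => ?_⟩
    · have e := (h.comm (hC a a.2) (hC b b.2)).map (MulAut.conj g)
      simp only [MulAut.conj_apply] at e
      show (a : G) * b = b * a
      rwa [show g * (g⁻¹ * a * g) * g⁻¹ = (a : G) by group,
        show g * (g⁻¹ * b * g) * g⁻¹ = (b : G) by group] at e
    · have e := congrArg (MulAut.conj g) (h.sq_eq_one (hC c hc))
      rw [map_pow, map_one, MulAut.conj_apply] at e
      rwa [show g * (g⁻¹ * c * g) * g⁻¹ = c by group] at e
  obtain ⟨F, _, _, hF, ⟨φ⟩⟩ := CfsgLib.StrongEmbedding.PSLTwo.exists_psl hyp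
  have : Fact (Nat.Prime 2) := ⟨Nat.prime_two⟩
  letI := Fintype.ofFinite (GaloisField 2 n)
  have hn : n ≠ 0 := by have := h.two_le; omega
  let e : F ≃+* GaloisField 2 n := FiniteField.ringEquivOfCardEq (by
    rw [hF, h.card_T, ← Nat.card_eq_fintype_card, GaloisField.card 2 n hn])
  exact ⟨φ.trans (CfsgLib.ClassicalGroups.pslFieldCongr e)⟩

end Setup

theorem card_psl_two {n : ℕ} (hn : n ≠ 0) :
    Nat.card (Matrix.ProjectiveSpecialLinearGroup (Fin 2) (GaloisField 2 n)) =
      (2 ^ n + 1) * (2 ^ n * (2 ^ n - 1)) := by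
  classical
  letI := Fintype.ofFinite (GaloisField 2 n)
  have hq : Fintype.card (GaloisField 2 n) = 2 ^ n := by
    rw [← Nat.card_eq_fintype_card, GaloisField.card 2 n hn]
  have hc := CfsgLib.StrongEmbedding.PSLTwo.card_sl_two (F := GaloisField 2 n)
  rw [hq] at hc
  rw [← hc]
  show Nat.card (_ ⧸ _) = _
  have h1 : center (Matrix.SpecialLinearGroup (Fin 2) (GaloisField 2 n)) = ⊥ :=
    CfsgLib.StrongEmbedding.PSLTwo.center_sl_two_eq_bot
  exact (Nat.card_congr
    ((QuotientGroup.quotientMulEquivOfEq h1).trans QuotientGroup.quotientBot).toEquiv)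

theorem card_mulAut_psl32 :
    Nat.card (MulAut (Matrix.ProjectiveSpecialLinearGroup (Fin 2) (GaloisField 2 5))) =
      5 * ((2 ^ 5 + 1) * (2 ^ 5 * (2 ^ 5 - 1))) := by
  classical
  letI := Fintype.ofFinite (GaloisField 2 5)
  have hq : Fintype.card (GaloisField 2 5) = 2 ^ 5 := by
    rw [← Nat.card_eq_fintype_card, GaloisField.card 2 5 (by norm_num)]
  rw [Cfsg.Agent.S0813.result 2 5 (by norm_num) hq 2 le_rfl (fun _ => by norm_num),
    CfsgLib.PSL2.card_pgl, hq, if_pos rfl, one_mul]

/-- The affine group over a finite field has order `(q - 1) q`. -/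
theorem card_affine (n : ℕ) (hn : n ≠ 0) :
    Nat.card (Cfsg.affineGroup (GaloisField 2 n)) = (2 ^ n - 1) * 2 ^ n := by
  classical
  haveI : Fintype (GaloisField 2 n) := Fintype.ofFinite _
  let L := GaloisField 2 n
  let f : Lˣ × L → Cfsg.affineGroup L := fun x =>
    ⟨(Equiv.mulLeft₀ (x.1 : L) x.1.ne_zero).trans (Equiv.addRight x.2), x.1, x.2, fun _ => rfl⟩
  have hf : Function.Bijective f := by
    refine ⟨?_, ?_⟩
    · rintro ⟨a, b⟩ ⟨a', b'⟩ h
      have h' : ∀ x, (a : L) * x + b = (a' : L) * x + b' := fun x =>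
        Equiv.Perm.ext_iff.1 (congrArg Subtype.val h) x
      have hb : b = b' := by simpa using h' 0
      subst hb
      have ha : a = a' := Units.ext (by simpa using h' 1)
      subst ha
      rfl
    · rintro ⟨σ, a, b, h⟩
      exact ⟨(a, b), Subtype.ext (Equiv.ext fun x => (h x).symm)⟩
  rw [← Nat.card_eq_of_bijective f hf, Nat.card_prod, Nat.card_units, GaloisField.card 2 n hn]

end CfsgLib.CGroup
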