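import Mathlib
import Cfsg.Prelude.Def_CaseTheorems
import Cfsg.Prelude.Def_Transfer
import Cfsg.Agent.Lib.Involutions.BaerSuzuki
import Cfsg.Agent.Lib.Involutions.Basic
import Cfsg.Agent.Lib.Solvable.CoprimeGeneration
import Cfsg.Agent.Lib.PCore.Basic

/-!
Groups in which subgroups of equal order are conjugate: no odd prime is at the same time the order
of an element centralised by an involution and of an element inverted by an involution.
-/

set_option autoImplicit false

namespace CfsgLib.CGroup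

open Subgroup CfsgLib.Involutions

/-- Any two subgroups of equal order are conjugate. -/
def CGrp (G : Type*) [Group G] : Prop :=
  ∀ H K : Subgroup G, Nat.card H = Nat.card K → ∃ g : G, K = H.map (MulAut.conj g).toMonoidHom

/-- No odd prime is both the order of an element centralised by an involution and of an element
inverted by an involution. -/
def NoReal (G : Type*) [Group G] : Prop :=
  ∀ (r : ℕ) (w v i j : G), r.Prime → r ≠ 2 → orderOf w = r → orderOf i = 2 → Commute i w →
    orderOf v = r → orderOf j = 2 → j * v * j⁻¹ = v⁻¹ → False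

variable {G : Type*} [Group G]

theorem commute_pow_of_dvd {x : G} {r : ℕ} (hx : r ∣ orderOf x) (h0 : orderOf x ≠ 0) :
    orderOf (x ^ (orderOf x / r)) = r :=
  orderOf_pow_orderOf_div h0 hx

/-- The hypothesis in the form used: divisibility of the orders suffices. -/
theorem NoReal.not_both [Finite G] (h : NoReal G) {r : ℕ} (hr : r.Prime) (hr2 : r ≠ 2) {w v i j : G}
    (hw : r ∣ orderOf w) (hi : orderOf i = 2) (hc : Commute i w) (hv : r ∣ orderOf v)
    (hj : orderOf j = 2) (hinv : j * v * j⁻¹ = v⁻¹) : False :=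
  h r _ _ i j hr hr2 (commute_pow_of_dvd hw (orderOf_pos w).ne') hi (hc.pow_right _)
    (commute_pow_of_dvd hv (orderOf_pos v).ne') hj (inverts_pow hinv _)

/-- An element of odd order is not centralised by an involution and inverted by another one. -/
theorem NoReal.eq_one [Finite G] (h : NoReal G) {z i j : G} (hz : Odd (orderOf z))
    (hi : orderOf i = 2) (hc : Commute i z) (hj : orderOf j = 2) (hinv : j * z * j⁻¹ = z⁻¹) :
    z = 1 := by
  by_contra h1
  have hne : orderOf z ≠ 1 := fun e => h1 (orderOf_eq_one_iff.1 e)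
  have hd := Nat.minFac_dvd (orderOf z)
  refine h.not_both (Nat.minFac_prime hne) ?_ hd hi hc hd hj hinv
  intro e
  rw [e] at hd
  exact Nat.not_even_iff_odd.2 hz (even_iff_two_dvd.2 hd)

theorem CGrp.noReal [Finite G] (h : CGrp G) : NoReal G := by
  intro r w v i j hr hr2 hw hi hc hv hj hinv
  have hcop : Nat.Coprime (orderOf i) (orderOf w) := by
    rw [hi, hw]; exact (Nat.coprime_primes Nat.prime_two hr).2 (Ne.symm hr2)
  have hA : Nat.card (zpowers (i * w)) = 2 * r := by
    rw [Nat.card_zpowers, hc.orderOf_mul_eq_mul_orderOf_of_coprime hcop, hi, hw]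
  have hjv : orderOf (j * v) = 2 := by
    rw [orderOf_eq_two_iff_mul]
    refine ⟨fun e => ?_, ?_⟩
    · have : j = v⁻¹ := eq_inv_of_mul_eq_one_left e
      rw [this, orderOf_inv, hv] at hj
      exact hr2 hj
    · have h1 : j * v * j = v⁻¹ := by rwa [inv_eq_self_of_involution hj] at hinv
      rw [← mul_assoc, h1, inv_mul_cancel]
  have hB : Nat.card (closure ({j, j * v} : Set G)) = 2 * r := by
    rw [card_closure_pair hj hjv, ← mul_assoc, mul_self_eq_one hj, one_mul, hv]
  obtain ⟨g, hg⟩ := h _ _ (hA.trans hB.symm)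
  have hj' : j ∈ (zpowers (i * w)).map (MulAut.conj g).toMonoidHom :=
    hg ▸ subset_closure (Set.mem_insert _ _)
  have hv' : v ∈ (zpowers (i * w)).map (MulAut.conj g).toMonoidHom := by
    have : j * (j * v) ∈ closure ({j, j * v} : Set G) :=
      mul_mem (subset_closure (Set.mem_insert _ _))
        (subset_closure (Set.mem_insert_of_mem _ rfl))
    rw [← mul_assoc, mul_self_eq_one hj, one_mul] at this
    exact hg ▸ this
  have hcomm : Commute j v := by
    obtain ⟨a, ha, rfl⟩ := hj'
    obtain ⟨b, hb, rfl⟩ := hv'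
    obtain ⟨m, rfl⟩ := mem_zpowers_iff.1 ha
    obtain ⟨n, rfl⟩ := mem_zpowers_iff.1 hb
    exact (Commute.zpow_zpow_self _ m n).map (MulAut.conj g).toMonoidHom
  have hsq : v ^ 2 = 1 := by
    rw [pow_two]
    nth_rewrite 1 [show v = j * v * j⁻¹ by rw [hcomm.eq]; group]
    rw [hinv, inv_mul_cancel]
  have := orderOf_dvd_of_pow_eq_one hsq
  rw [hv] at this
  exact hr2 ((Nat.prime_dvd_prime_iff_eq hr Nat.prime_two).1 this)

theorem card_comap_quot [Finite G] {N : Subgroup G} [N.Normal] (A : Subgroup (G ⧸ N)) :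
    Nat.card (A.comap (QuotientGroup.mk' N)) = Nat.card N * Nat.card A :=
  (QuotientGroup.preimageMkEquivSubgroupProdSet N A |> Nat.card_congr).trans (Nat.card_prod _ _)

theorem CGrp.quotient [Finite G] (h : CGrp G) (N : Subgroup G) [N.Normal] : CGrp (G ⧸ N) := by
  intro A B hAB
  have hs := QuotientGroup.mk'_surjective N
  obtain ⟨g, hg⟩ := h (A.comap (QuotientGroup.mk' N)) (B.comap (QuotientGroup.mk' N))
    (by rw [card_comap_quot, card_comap_quot, hAB])
  refine ⟨(g : G ⧸ N), ?_⟩
  have h1 := congrArg (Subgroup.map (QuotientGroup.mk' N)) hg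
  rw [map_comap_eq_self_of_surjective hs, map_map] at h1
  rw [h1]
  conv_rhs => rw [← map_comap_eq_self_of_surjective hs A, map_map]
  rfl

theorem NoReal.subgroup (h : NoReal G) (M : Subgroup G) : NoReal M := by
  intro r w v i j hr hr2 hw hi hc hv hj hinv
  exact h r (w : G) v i j hr hr2 (by rw [orderOf_coe, hw]) (by rw [orderOf_coe, hi])
    (congrArg Subtype.val hc.eq) (by rw [orderOf_coe, hv]) (by rw [orderOf_coe, hj])
    (congrArg Subtype.val hinv)

theorem odd_orderOf_of_mem [Finite G] {N : Subgroup G} (hN : Odd (Nat.card N)) {x : G} (hx : x ∈ N) :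
    Odd (orderOf x) := by
  refine Odd.of_dvd_nat hN ?_
  rw [← orderOf_mk x hx]
  exact orderOf_dvd_natCard _

/-- Involutions lift through odd normal subgroups. -/
theorem exists_involution_lift [Finite G] {N : Subgroup G} [N.Normal] (hN : Odd (Nat.card N)) {x : G}
    (hx : orderOf (x : G ⧸ N) = 2) : ∃ i : G, orderOf i = 2 ∧ (i : G ⧸ N) = x := by
  have h2 : x ^ 2 ∈ N := by
    rw [← QuotientGroup.eq_one_iff, QuotientGroup.mk_pow, ← hx]; exact pow_orderOf_eq_one _
  obtain ⟨k, hk⟩ := odd_orderOf_of_mem hN h2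
  have hi : ((x ^ orderOf (x ^ 2) : G) : G ⧸ N) = x := by
    rw [QuotientGroup.mk_pow, hk, pow_succ, pow_mul,
      show (x : G ⧸ N) ^ 2 = 1 by rw [← hx]; exact pow_orderOf_eq_one _, one_pow, one_mul]
  refine ⟨_, orderOf_eq_prime ?_ ?_, hi⟩
  · rw [← pow_mul, mul_comm, pow_mul, pow_orderOf_eq_one]
  · intro e
    rw [e, QuotientGroup.mk_one] at hi
    rw [← hi, orderOf_one] at hx
    omega

/-- An element centralising an involution modulo an odd normal subgroup has a centralising
representative. -/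
theorem exists_centralizing_lift [Finite G] {N : Subgroup G} [N.Normal] (hN : Odd (Nat.card N))
    {i g : G} (hi : orderOf i = 2) (hg : (g : G ⧸ N) * i = i * g) :
    ∃ g' : G, (g' : G ⧸ N) = g ∧ Commute i g' := by
  set z := i * (g * i * g⁻¹) with hz
  have hzN : z ∈ N := by
    rw [← QuotientGroup.eq_one_iff, hz]
    simp only [QuotientGroup.mk_mul, QuotientGroup.mk_inv]
    rw [hg, mul_inv_cancel_right, ← QuotientGroup.mk_mul, mul_self_eq_one hi, QuotientGroup.mk_one]
  obtain ⟨m, hm⟩ := odd_orderOf_of_mem hN hzN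
  have hi' : g * i * g⁻¹ = i * z := by rw [hz, ← mul_assoc i i, mul_self_eq_one hi, one_mul]
  have hiz : i * z * i⁻¹ = z⁻¹ := by
    rw [hz]; exact left_inverts_prod hi ((orderOf_conj_eq g i).trans hi)
  refine ⟨z ^ (m + 1) * g, ?_, ?_⟩
  · rw [QuotientGroup.mk_mul, (QuotientGroup.eq_one_iff _).2 (pow_mem hzN _), one_mul]
  · have hk' : z ^ (m + 1) * i = i * (z ^ (m + 1))⁻¹ := by
      rw [← inverts_pow hiz (m + 1), ← mul_assoc, ← mul_assoc, mul_self_eq_one hi, one_mul,
        inv_eq_self_of_involution hi]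
    have h3 : z ^ (2 * m + 1) = 1 := by rw [← hm]; exact pow_orderOf_eq_one z
    have key : z ^ (m + 1) * (g * i * g⁻¹) = i * z ^ (m + 1) := by
      rw [hi', ← mul_assoc, hk', mul_assoc]
      congr 1
      rw [inv_mul_eq_iff_eq_mul, ← pow_add, show m + 1 + (m + 1) = (2 * m + 1) + 1 by ring,
        pow_succ, h3, one_mul]
    show i * (z ^ (m + 1) * g) = z ^ (m + 1) * g * i
    rw [← mul_assoc, ← key]; group

theorem NoReal.quotient [Finite G] (h : NoReal G) {N : Subgroup G} [N.Normal]
    (hN : Odd (Nat.card N)) : NoReal (G ⧸ N) := by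
  intro r w v i j hr hr2 hw hi hc hv hj hinv
  obtain ⟨w₀, rfl⟩ := QuotientGroup.mk_surjective w
  obtain ⟨v₀, rfl⟩ := QuotientGroup.mk_surjective v
  obtain ⟨i₀, rfl⟩ := QuotientGroup.mk_surjective i
  obtain ⟨j₀, rfl⟩ := QuotientGroup.mk_surjective j
  obtain ⟨i₁, hi₁, hii⟩ := exists_involution_lift hN hi
  obtain ⟨j₁, hj₁, hjj⟩ := exists_involution_lift hN hj
  obtain ⟨w₁, hw₁, hc₁⟩ := exists_centralizing_lift hN hi₁ (g := w₀) (by rw [hii]; exact hc.symm.eq)
  have hjv : orderOf ((j₀ * v₀ : G) : G ⧸ N) = 2 := by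
    rw [QuotientGroup.mk_mul, orderOf_eq_two_iff_mul]
    refine ⟨fun e => hr2 ?_, ?_⟩
    · rw [eq_inv_of_mul_eq_one_left e, orderOf_inv, hv] at hj
      exact hj
    · rw [← mul_assoc]
      nth_rewrite 2 [← inv_eq_self_of_involution hj]
      rw [hinv, inv_mul_cancel]
  obtain ⟨k, hk, hkk⟩ := exists_involution_lift hN hjv
  have hv₁ : ((j₁ * k : G) : G ⧸ N) = v₀ := by
    rw [QuotientGroup.mk_mul, hjj, hkk, QuotientGroup.mk_mul, ← mul_assoc, mul_self_eq_one hj,
      one_mul]
  refine h.not_both hr hr2 (w := w₁) (v := j₁ * k) ?_ hi₁ hc₁ ?_ hj₁ (left_inverts_prod hj₁ hk)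
  · rw [← hw, ← hw₁]; exact orderOf_map_dvd (QuotientGroup.mk' N) w₁
  · rw [← hv, ← hv₁]; exact orderOf_map_dvd (QuotientGroup.mk' N) _

/-- A four group normalising a subgroup of odd order centralises it. -/
theorem NoReal.four_centralizes [Finite G] (h : NoReal G) {V X : Subgroup G} [IsMulCommutative V]
    (hV : ∀ v ∈ V, v ^ 2 = 1) (hnc : ¬ IsCyclic V) (hX : Odd (Nat.card X))
    (hVX : V ≤ normalizer (X : Set G)) : X ≤ centralizer (V : Set G) := by
  obtain ⟨k, hk⟩ := IsPGroup.iff_card.1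
    (fun a : V => ⟨1, Subtype.ext (by simpa using hV a a.2)⟩ : IsPGroup 2 V)
  have hcop : (Nat.card V).Coprime (Nat.card X) := by
    rw [hk]; exact (Nat.coprime_two_left.2 hX).pow_left k
  refine (CfsgLib.CoprimeGeneration.iSup_centralizer_eq V X hnc hVX hcop).symm.trans_le
    (iSup₂_le fun v hv => ?_)
  obtain ⟨hv, hv1⟩ := hv
  intro y hy
  obtain ⟨hyX, hyv⟩ := hy
  refine mem_centralizer_iff.2 fun u hu => ?_
  by_cases hu1 : u = 1
  · rw [hu1, one_mul, mul_one]
  have hu2 : orderOf u = 2 := orderOf_eq_prime (hV u hu) hu1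
  have hyv' : Commute v y := ((mem_centralizer_singleton_iff).1 hyv).symm
  have hvu : Commute v u :=
    congrArg Subtype.val ((IsMulCommutative.is_comm (M := V)).comm ⟨v, hv⟩ ⟨u, hu⟩)
  have hz : y⁻¹ * (u * y * u⁻¹) ∈ X :=
    mul_mem (inv_mem hyX) ((mem_normalizer_iff.1 (hVX hu) y).1 hyX)
  have h1 := h.eq_one (odd_orderOf_of_mem hX hz) (orderOf_eq_prime (hV v hv) hv1)
    (hyv'.inv_right.mul_right ((hvu.mul_right hyv').mul_right hvu.inv_right)) hu2
    (by rw [inv_eq_self_of_involution hu2]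
        simp only [mul_inv_rev, inv_inv, inv_eq_self_of_involution hu2, mul_assoc, mul_self_eq_one hu2,
          mul_one])
  rw [inv_mul_eq_one] at h1
  nth_rewrite 2 [h1]
  group

/-- If the Sylow two-subgroups are commutative, the involutions of an involution centraliser
commute. -/
theorem NoReal.commute_involutions [Finite G] (h : NoReal G)
    (hab : ∀ S : Subgroup G, IsPGroup 2 S → ∀ a ∈ S, ∀ b ∈ S, Commute a b) {u i j : G}
    (hu : orderOf u = 2) (hi : orderOf i = 2) (hj : orderOf j = 2) (hui : Commute u i)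
    (huj : Commute u j) : Commute i j := by
  have : Fact (Nat.Prime 2) := ⟨Nat.prime_two⟩
  set C := centralizer ({u} : Set G)
  have key : ∀ x : C, orderOf x = 2 → x ∈ Cfsg.pCore 2 C := by
    intro x hx
    obtain ⟨N, hN, hN2, hxN⟩ := exists_normal_isPGroup_of_mem (p := 2) (x := x) fun g => by
      have hy : orderOf (g * x * g⁻¹) = 2 := (orderOf_conj_eq g x).trans hx
      obtain ⟨k, hk⟩ : ∃ k, orderOf (x * (g * x * g⁻¹)) = 2 ^ k := by
        refine ⟨_, Nat.eq_prime_pow_of_unique_prime_dvd (orderOf_pos _).ne' fun {r} hr hrd => ?_⟩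
        by_contra hr2
        refine h.not_both hr hr2 (w := ((x * (g * x * g⁻¹) : C) : G))
          (v := ((x * (g * x * g⁻¹) : C) : G)) (i := u) (j := (x : G)) ?_ hu ?_ ?_ ?_ ?_
        · rwa [orderOf_coe]
        · exact ((mem_centralizer_singleton_iff).1 (x * (g * x * g⁻¹)).2).symm
        · rwa [orderOf_coe]
        · rwa [orderOf_coe]
        · exact congrArg Subtype.val (left_inverts_prod hx hy)
      exact isPGroup_two_closure_pair hx hy hk
    exact CfsgLib.PCore.le_pCore hN hN2 hxN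
  have hiC : i ∈ C := mem_centralizer_singleton_iff.2 hui.symm.eq
  have hjC : j ∈ C := mem_centralizer_singleton_iff.2 huj.symm.eq
  refine hab ((Cfsg.pCore 2 C).map C.subtype) (CfsgLib.PCore.pCore_isPGroup.map _) i ?_ j ?_
  · exact ⟨⟨i, hiC⟩, key _ (by rw [orderOf_mk, hi]), rfl⟩
  · exact ⟨⟨j, hjC⟩, key _ (by rw [orderOf_mk, hj]), rfl⟩

end CfsgLib.CGroup
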