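import Cfsg.Agent.Lib.CGroup.Linear
import Cfsg.Agent.S4023

/-!
Non-normal Sylow two-subgroup with a field automorphism induced: reduction to a normal subgroup
of odd index.
-/

set_option autoImplicit false
set_option linter.unusedSectionVars false
set_option linter.style.haveILetI false

namespace CfsgLib.CGroup

open Subgroup CfsgLib.Involutions
open CfsgLib.StrongEmbedding.ElementaryCentralizers (normT involution_mem_T)

universe u

/-- A group where the normaliser of `T` induces a group of order `n (2^n - 1)`. -/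
structure Outer {G : Type u} [Group G] (T : Sylow 2 G) (n : ℕ) : Prop where
  conj : CGrp G
  elem : Cfsg.IsElementaryAbelian 2 (T : Subgroup G)
  card_T : Nat.card (T : Subgroup G) = 2 ^ n
  hn : n.Prime
  hn2 : n ≠ 2
  hn4 : n - 1 ∣ 4
  prime : (2 ^ n - 1).Prime
  ne : ¬ n ∣ 2 ^ n - 1
  fix_log : ∀ c < n, 2 ^ c % n = 2 ^ n % n → c = 1
  index : (centralizer ((T : Subgroup G) : Set G)).relIndex (normT T) = (2 ^ n - 1) * n

variable {G : Type u} [Group G] [Finite G] {T : Sylow 2 G} {n : ℕ}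

namespace Outer

variable (h : Outer T n)
include h

theorem comm {x y : G} (hx : x ∈ (T : Subgroup G)) (hy : y ∈ (T : Subgroup G)) : Commute x y :=
  congrArg Subtype.val (h.elem.1.is_comm.comm ⟨x, hx⟩ ⟨y, hy⟩)

theorem two_group (S : Subgroup G) (hS : IsPGroup 2 S) :
    (∀ a ∈ S, ∀ b ∈ S, Commute a b) ∧ ∀ a ∈ S, a ^ 2 = 1 := by
  have : Fact (Nat.Prime 2) := ⟨Nat.prime_two⟩
  obtain ⟨P, hP⟩ := hS.exists_le_sylow
  obtain ⟨g, hg⟩ := MulAction.exists_smul_eq G T P
  refine ⟨fun a ha b hb => ?_, fun a ha => ?_⟩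
  · have ha' := hP ha
    have hb' := hP hb
    rw [← hg, Sylow.coe_subgroup_smul] at ha' hb'
    obtain ⟨x, hx, rfl⟩ := ha'
    obtain ⟨y, hy, rfl⟩ := hb'
    exact (h.comm hx hy).map _
  · have ha' := hP ha
    rw [← hg, Sylow.coe_subgroup_smul] at ha'
    obtain ⟨x, hx, rfl⟩ := ha'
    show (MulAut.conj g x) ^ 2 = 1
    rw [← map_pow, h.elem.2 x hx, map_one]

theorem centralizer_le {u g : G} (hu : u ∈ (T : Subgroup G)) (hu1 : u ≠ 1) (hg : Commute g u) :
    g ∈ normT T := by
  have : Fact (Nat.Prime 2) := ⟨Nat.prime_two⟩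
  have hu2 : orderOf u = 2 := orderOf_eq_prime (h.elem.2 u hu) hu1
  refine CfsgLib.Coprime.mem_normalizer_of_forall_conj fun x hx => ?_
  by_cases hx1 : x = 1
  · simp [hx1]
  have hy : orderOf (g * x * g⁻¹) = 2 :=
    (orderOf_conj_eq g x).trans (orderOf_eq_prime (h.elem.2 x hx) hx1)
  have huy : Commute u (g * x * g⁻¹) := (hg.symm.mul_right (h.comm hu hx)).mul_right hg.symm.inv_right
  have hcomm : ∀ s ∈ (T : Subgroup G), Commute (g * x * g⁻¹) s := by
    intro s hs
    by_cases hs1 : s = 1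
    · rw [hs1]; exact Commute.one_right _
    exact h.conj.noReal.commute_involutions (fun S hS => (h.two_group S hS).1) hu2 hy
      (orderOf_eq_prime (h.elem.2 s hs) hs1) huy (h.comm hu hs)
  exact involution_mem_T hy (centralizer_le_normalizer _
    (mem_centralizer_iff.2 fun s hs => (hcomm s hs).symm.eq))

theorem range_card : Nat.card (T : Subgroup G).normalizerMonoidHom.range = (2 ^ n - 1) * n := by
  rw [← h.index, relIndex, ← Subgroup.index_ker, normalizerMonoidHom_ker]

/-- An element of `n`-power order of the normaliser inducing a non-trivial automorphism. -/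
theorem exists_outer : ∃ d ∈ normT T, d ∉ centralizer ((T : Subgroup G) : Set G) ∧
    ∃ k, orderOf d = n ^ k := by
  haveI := Fact.mk h.hn
  set ψ := (T : Subgroup G).normalizerMonoidHom
  obtain ⟨⟨_, ⟨⟨g, hgN⟩, rfl⟩⟩, hr⟩ := exists_prime_orderOf_dvd_card' (G := ψ.range) n
    (by rw [h.range_card]; exact dvd_mul_left n _)
  replace hr : orderOf (ψ ⟨g, hgN⟩) = n := (Subgroup.orderOf_coe (⟨ψ ⟨g, hgN⟩, ⟨_, rfl⟩⟩ : ψ.range)).trans hr
  set m := ordCompl[n] (orderOf g)
  refine ⟨g ^ m, pow_mem hgN m, fun hc => ?_, (orderOf g).factorization n, ?_⟩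
  · have hk : (⟨g, hgN⟩ ^ m : normT T) ∈ ψ.ker := by
      rw [normalizerMonoidHom_ker]
      exact hc
    rw [MonoidHom.mem_ker, map_pow] at hk
    have := orderOf_dvd_of_pow_eq_one hk
    rw [hr] at this
    exact Nat.not_dvd_ordCompl h.hn (orderOf_pos g).ne' this
  · exact orderOf_pow_orderOf_div (orderOf_pos g).ne' (Nat.ordProj_dvd _ _)

theorem exists_fixed_involution {d : G} (hd : d ∈ normT T) {k : ℕ} (hdo : orderOf d = n ^ k) :
    ∃ u ∈ (T : Subgroup G), u ≠ 1 ∧ Commute d u := by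
  haveI := Fact.mk h.hn
  set ψ := (T : Subgroup G).normalizerMonoidHom
  set P := zpowers (ψ ⟨d, hd⟩)
  have hdd : orderOf (ψ ⟨d, hd⟩) ∣ n ^ k :=
    (orderOf_map_dvd ψ _).trans (by rw [orderOf_mk, hdo])
  obtain ⟨j, -, hj⟩ := (Nat.dvd_prime_pow h.hn).1 hdd
  have hP : IsPGroup n P := IsPGroup.of_card (n := j) (by rw [Nat.card_zpowers, hj])
  by_contra! hall
  have hfix : ∀ x : MulAction.fixedPoints P (T : Subgroup G), x.1 = 1 := by
    rintro ⟨⟨x, hx⟩, hxf⟩
    by_contra hne
    refine hall x hx (fun e => hne (Subtype.ext e)) ?_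
    have h1 := congrArg Subtype.val (hxf ⟨_, mem_zpowers _⟩)
    show d * x = x * d
    exact mul_inv_eq_iff_eq_mul.1 (show d * x * d⁻¹ = x from h1)
  have hmod := hP.card_modEq_card_fixedPoints ((T : Subgroup G) : Subgroup G)
  have h1 : Nat.card (MulAction.fixedPoints P (T : Subgroup G)) = 1 := by
    rw [Nat.card_eq_one_iff_unique]
    refine ⟨⟨fun a b => Subtype.ext ((hfix a).trans (hfix b).symm)⟩, ⟨⟨1, fun r => ?_⟩⟩⟩
    exact map_one (r : MulAut (T : Subgroup G))
  rw [h1, h.card_T] at hmod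
  exact h.ne ((Nat.modEq_iff_dvd' Nat.one_le_two_pow).1 hmod.symm)

/-- The involutions of `T` centralised by an outer element of order `n` are unique. -/
theorem fixed_unique {d : G} (hd : d ∈ normT T) (hdo : orderOf d = n)
    (hdc : d ∉ centralizer ((T : Subgroup G) : Set G)) :
    Nat.card ((T : Subgroup G) ⊓ centralizer ({d} : Set G) : Subgroup G) = 2 := by
  have : Fact (Nat.Prime 2) := ⟨Nat.prime_two⟩
  haveI := Fact.mk h.hn
  set ψ := (T : Subgroup G).normalizerMonoidHom
  set P := zpowers (ψ ⟨d, hd⟩)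
  have hdd : orderOf (ψ ⟨d, hd⟩) ∣ n :=
    (orderOf_map_dvd ψ _).trans (by rw [orderOf_mk, hdo])
  obtain ⟨j, -, hj⟩ := (Nat.dvd_prime_pow h.hn).1 (show orderOf (ψ ⟨d, hd⟩) ∣ n ^ 1 by rwa [pow_one])
  have hP : IsPGroup n P := IsPGroup.of_card (n := j) (by rw [Nat.card_zpowers, hj])
  set F := (T : Subgroup G) ⊓ centralizer ({d} : Set G) with hF
  have heq : Nat.card (MulAction.fixedPoints P (T : Subgroup G)) = Nat.card F := by
    refine Nat.card_congr
      { toFun := fun x => ⟨(x.1 : G), x.1.2, mem_centralizer_singleton_iff.2 ?_⟩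
        invFun := fun x => ⟨⟨x.1, x.2.1⟩, ?_⟩
        left_inv := fun x => rfl
        right_inv := fun x => rfl }
    · have h1 := congrArg Subtype.val (x.2 ⟨_, mem_zpowers _⟩)
      exact (mul_inv_eq_iff_eq_mul.1 (show d * (x.1 : G) * d⁻¹ = x.1 from h1)).symm
    · rintro ⟨r, hr⟩
      obtain ⟨i, rfl⟩ := mem_zpowers_iff.1 hr
      have hst : ψ ⟨d, hd⟩ ∈ MulAction.stabilizer (MulAut (T : Subgroup G))
          (⟨x.1, x.2.1⟩ : (T : Subgroup G)) := by
        apply Subtype.ext
        show d * x.1 * d⁻¹ = x.1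
        rw [← mem_centralizer_singleton_iff.1 x.2.2, mul_inv_cancel_right]
      exact (zpow_mem hst i :)
  have hmod := hP.card_modEq_card_fixedPoints ((T : Subgroup G) : Subgroup G)
  rw [heq, h.card_T] at hmod
  obtain ⟨c, hc⟩ := IsPGroup.iff_card.1 (T.isPGroup'.to_le (inf_le_left : F ≤ (T : Subgroup G)))
  have hle : c ≤ n := by
    have h1 := card_dvd_of_le (inf_le_left : F ≤ (T : Subgroup G))
    rw [hc, h.card_T, Nat.pow_dvd_pow_iff_le_right (by norm_num)] at h1
    exact h1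
  have hlt : c < n := by
    refine lt_of_le_of_ne hle fun e => hdc ?_
    have hFT : F = (T : Subgroup G) := eq_of_le_of_card_ge inf_le_left (by rw [hc, h.card_T, e])
    refine mem_centralizer_iff.2 fun x hx => ?_
    exact mem_centralizer_singleton_iff.1 ((hFT ▸ hx : x ∈ F).2)
  rw [hc, h.fix_log c hlt (by rw [hc] at hmod; exact hmod.symm), pow_one]

theorem isCyclic_sylow (A : Sylow n G) : IsCyclic (A : Subgroup G) := by
  have : Fact (Nat.Prime 2) := ⟨Nat.prime_two⟩
  haveI := Fact.mk h.hn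
  by_contra hnc
  have hexp : ∀ x : G, (∃ k, orderOf x = n ^ k) → x ^ n = 1 := by
    rintro x ⟨k, hk⟩
    obtain ⟨P, hP⟩ := (IsPGroup.of_card (n := k) (by rw [Nat.card_zpowers, hk]) :
      IsPGroup n (zpowers x)).exists_le_sylow
    obtain ⟨g, hg⟩ := MulAction.exists_smul_eq G A P
    have hxP := hP (mem_zpowers x)
    rw [← hg, Sylow.coe_subgroup_smul] at hxP
    obtain ⟨a, ha, rfl⟩ := hxP
    have ha' : a ^ n = 1 := by
      rcases Cfsg.Agent.S4023.result (fun H K _ _ => h.conj H K) A with hc | hel | ⟨hn2, -⟩ | ⟨-, -, -, he⟩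
      · exact absurd hc hnc
      · exact hel.2 a ha
      · exact absurd hn2 h.hn2
      · have h1 := Monoid.pow_exponent_eq_one (⟨a, ha⟩ : (A : Subgroup G))
        rw [he] at h1
        exact congrArg Subtype.val h1
    show (MulAut.conj g a) ^ n = 1
    rw [← map_pow, ha', map_one]
  obtain ⟨d, hdN, hdc, k, hdk⟩ := h.exists_outer
  have hdo : orderOf d = n := orderOf_eq_prime (hexp d ⟨k, hdk⟩)
    (fun e => hdc (by rw [e]; exact one_mem _))
  obtain ⟨u, huT, hu1, hdu⟩ := h.exists_fixed_involution hdN hdk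
  have hu2 : orderOf u = 2 := orderOf_eq_prime (h.elem.2 u huT) hu1
  set F := (T : Subgroup G) ⊓ centralizer ({d} : Set G) with hF
  have hFc := h.fixed_unique hdN hdo hdc
  have huF : u ∈ F := ⟨huT, mem_centralizer_singleton_iff.2 hdu.symm.eq⟩
  -- the centraliser of `d` has a Sylow two-subgroup of order two
  set K := centralizer ({d} : Set G) with hK
  have huK : u ∈ K := huF.2
  obtain ⟨P₀, hP₀⟩ := (IsPGroup.of_card (p := 2) (n := 1)
    (by rw [Nat.card_zpowers, orderOf_mk, hu2, pow_one]) :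
    IsPGroup 2 (zpowers (⟨u, huK⟩ : K))).exists_le_sylow
  have hP₀F : (P₀ : Subgroup K).map K.subtype ≤ F := by
    rintro _ ⟨x, hx, rfl⟩
    refine ⟨?_, x.2⟩
    have hS := h.two_group _ (P₀.isPGroup'.map K.subtype)
    have hxu : Commute (x : G) u :=
      hS.1 _ ⟨x, hx, rfl⟩ _ ⟨⟨u, huK⟩, hP₀ (mem_zpowers _), rfl⟩
    by_cases hx1 : (x : G) = 1
    · show (x : G) ∈ _
      rw [hx1]; exact one_mem _
    exact involution_mem_T (orderOf_eq_prime (hS.2 _ ⟨x, hx, rfl⟩) hx1)
      (h.centralizer_le huT hu1 hxu)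
  have hP₀c : Nat.card P₀ = 2 := by
    refine le_antisymm ?_ ?_
    · rw [← card_map_of_injective (subtype_injective K)]
      exact (Subgroup.card_le_of_le hP₀F).trans_eq hFc
    · calc 2 = Nat.card (zpowers (⟨u, huK⟩ : K)) := by rw [Nat.card_zpowers, orderOf_mk, hu2]
        _ ≤ _ := Subgroup.card_le_of_le hP₀
  have hkey : ∀ w, orderOf w = n → w ∉ centralizer ((T : Subgroup G) : Set G) := by
    intro w hw hwc
    obtain ⟨g, hg⟩ := h.conj (zpowers w) (zpowers d) (by rw [Nat.card_zpowers, Nat.card_zpowers, hw, hdo])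
    set V := (T : Subgroup G).map (MulAut.conj g).toMonoidHom with hV
    have hVK : V ≤ K := by
      rintro _ ⟨t, ht, rfl⟩
      obtain ⟨_, hv, hve⟩ : d ∈ (zpowers w).map (MulAut.conj g).toMonoidHom := hg ▸ mem_zpowers d
      obtain ⟨i, rfl⟩ := mem_zpowers_iff.1 hv
      refine mem_centralizer_singleton_iff.2 ?_
      rw [← hve]
      exact (((show Commute t w from mem_centralizer_iff.1 hwc t ht).zpow_right i).map _).eq
    obtain ⟨S', hS'⟩ := ((T.isPGroup'.map (MulAut.conj g).toMonoidHom).of_equiv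
      (subgroupOfEquivOfLe hVK).symm).exists_le_sylow
    have h1 := Subgroup.card_le_of_le hS'
    rw [Nat.card_congr (subgroupOfEquivOfLe hVK).toEquiv, card_map_of_injective (MulAut.conj g).injective,
      h.card_T, Sylow.card_eq_multiplicity S', ← Sylow.card_eq_multiplicity P₀, hP₀c] at h1
    have : 2 ^ 2 ≤ 2 ^ n := Nat.pow_le_pow_right (by norm_num) h.hn.two_le
    omega
  obtain ⟨S₂, N₀, hN₀, hc⟩ := CfsgLib.Transfer.hasNormalPComplement_of_normalizer_le P₀ (by
    intro g hg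
    refine mem_centralizer_iff.2 fun x hx => ?_
    by_cases hx1 : x = 1
    · rw [hx1, one_mul, mul_one]
    have hy := (mem_normalizer_iff.1 hg x).1 hx
    have hy1 : g * x * g⁻¹ ≠ 1 := fun e => hx1 (conj_eq_one_iff.1 e)
    obtain ⟨a, b, hab, hu'⟩ := Nat.card_eq_two_iff.1 hP₀c
    have h1 : (⟨x, hx⟩ : P₀) = ⟨g * x * g⁻¹, hy⟩ := by
      haveI := Fintype.ofFinite P₀
      obtain ⟨c, -, hc⟩ := (Nat.card_eq_two_iff' (1 : P₀)).1 hP₀c
      exact (hc _ fun e => hx1 (congrArg Subtype.val e)).trans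
        (hc _ fun e => hy1 (congrArg Subtype.val e)).symm
    have h2 : x = g * x * g⁻¹ := congrArg Subtype.val h1
    rw [eq_mul_inv_iff_mul_eq] at h2
    exact h2)
  haveI := hN₀
  have hN₀odd : Odd (Nat.card N₀) := by
    rw [← Nat.not_even_iff_odd, even_iff_two_dvd]
    intro h2
    apply S₂.not_dvd_index
    rwa [hc.index_eq_card]
  set U := zpowers (⟨u, huK⟩ : K)
  have hUc : (Nat.card U).Coprime (Nat.card N₀) := by
    rw [Nat.card_zpowers, orderOf_mk, hu2]
    exact Nat.coprime_two_left.2 hN₀odd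
  obtain ⟨S, hS⟩ := CfsgLib.Coprime.exists_invariant_sylow U N₀ (le_normalizer_of_normal.trans' le_top) hUc
    (Or.inl (Group.isSolvable_of_comm fun a b => Subtype.ext (by
      obtain ⟨i, hi⟩ := mem_zpowers_iff.1 a.2
      obtain ⟨j, hj⟩ := mem_zpowers_iff.1 b.2
      rw [Subgroup.coe_mul, Subgroup.coe_mul, ← hi, ← hj]
      exact (Commute.zpow_zpow_self _ i j).eq))) n
  set S' := ((S : Subgroup N₀).map N₀.subtype).map K.subtype with hS'
  have hS'n : IsPGroup n S' := (S.isPGroup'.map _).map _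
  have hS'N : S' ≤ normT T := by
    rintro _ ⟨y, hy, rfl⟩
    refine h.centralizer_le huT hu1 ?_
    have hy' := (mem_normalizer_iff.1 (hS (mem_zpowers (⟨u, huK⟩ : K))) y).1 hy
    set z := (y : G)⁻¹ * (u * y * u⁻¹) with hz
    have hzS : z ∈ S' := ⟨y⁻¹ * (⟨u, huK⟩ * y * (⟨u, huK⟩ : K)⁻¹),
      Subgroup.mul_mem _ (Subgroup.inv_mem _ hy) hy', rfl⟩
    by_contra hyu
    have hz1 : z ≠ 1 := fun e => hyu (by
      rw [hz, inv_mul_eq_one, eq_mul_inv_iff_mul_eq] at e
      exact e)
    obtain ⟨l, hl⟩ := IsPGroup.iff_orderOf.1 hS'n ⟨z, hzS⟩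
    rw [orderOf_mk] at hl
    have hnl : n ∣ orderOf z := by
      rw [hl]
      refine dvd_pow_self n fun e => hz1 ?_
      rw [e, pow_zero] at hl
      exact orderOf_eq_one_iff.1 hl
    refine h.conj.noReal.not_both h.hn h.hn2 (dvd_of_eq hdo.symm) hu2 hdu.symm hnl hu2 ?_
    rw [hz, inv_eq_self_of_involution hu2]
    simp only [mul_inv_rev, inv_inv, inv_eq_self_of_involution hu2, mul_assoc, mul_self_eq_one hu2,
      mul_one]
  have hS'card : Nat.card S' ∣ n := by
    set ψ := (T : Subgroup G).normalizerMonoidHom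
    let f : S' →* ψ.range := ψ.rangeRestrict.comp (Subgroup.inclusion hS'N)
    have hinj : Function.Injective f := by
      rw [← MonoidHom.ker_eq_bot_iff, eq_bot_iff]
      rintro ⟨x, hx⟩ hxk
      rw [mem_bot]
      by_contra hne
      have hk : (⟨x, hS'N hx⟩ : normT T) ∈ ψ.ker :=
        MonoidHom.mem_ker.2 (congrArg Subtype.val (MonoidHom.mem_ker.1 hxk))
      rw [normalizerMonoidHom_ker] at hk
      obtain ⟨l, hl⟩ := IsPGroup.iff_orderOf.1 hS'n ⟨x, hx⟩
      refine hkey x (orderOf_eq_prime (hexp x ⟨l, by rw [← hl, orderOf_mk]⟩) ?_) hk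
      exact fun e => hne (Subtype.ext e)
    have h1 := card_dvd_of_injective f hinj
    rw [h.range_card] at h1
    obtain ⟨l, hl⟩ := IsPGroup.iff_card.1 hS'n
    rw [hl] at h1 ⊢
    exact ((h.hn.coprime_iff_not_dvd.2 h.ne).pow_left l).dvd_of_dvd_mul_left h1
  have hKn : (Nat.card K).factorization n ≤ 1 := by
    have h1 : (Nat.card K).factorization n = (Nat.card N₀).factorization n := by
      rw [← hc.card_mul, Nat.factorization_mul Nat.card_pos.ne' Nat.card_pos.ne', Finsupp.add_apply,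
        Sylow.card_eq_multiplicity S₂, Nat.factorization_pow, Finsupp.smul_apply,
        Nat.prime_two.factorization, Finsupp.single_eq_of_ne h.hn2, smul_zero, add_zero]
    have h2 : Nat.card S' = n ^ (Nat.card N₀).factorization n := by
      rw [hS', card_map_of_injective (subtype_injective _), card_map_of_injective (subtype_injective _),
        Sylow.card_eq_multiplicity S]
    rw [h1, ← Nat.pow_le_pow_iff_right h.hn.one_lt, ← h2, pow_one]
    exact Nat.le_of_dvd h.hn.pos hS'card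
  -- a Sylow subgroup containing `d`
  have hbound : ∀ B : Subgroup G, IsPGroup n B → B ≤ K → d ∈ B → B = zpowers d := by
    intro B hB hBK hdB
    obtain ⟨l, hl⟩ := IsPGroup.iff_card.1 hB
    have h1 := card_dvd_of_le hBK
    rw [hl] at h1
    have hl1 : l ≤ 1 := ((h.hn.pow_dvd_iff_le_factorization Nat.card_pos.ne').1 h1).trans hKn
    refine (eq_of_le_of_card_ge (zpowers_le.2 hdB) ?_).symm
    rw [hl, Nat.card_zpowers, hdo]
    exact (Nat.pow_le_pow_right h.hn.pos hl1).trans (pow_one n).le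
  obtain ⟨B, hB⟩ := (IsPGroup.of_card (n := k) (by rw [Nat.card_zpowers, hdk]) :
    IsPGroup n (zpowers d)).exists_le_sylow
  have hdB : d ∈ (B : Subgroup G) := hB (mem_zpowers d)
  haveI : Nontrivial (B : Subgroup G) := ⟨⟨⟨d, hdB⟩, 1, fun e =>
    hdc (by rw [show d = 1 from congrArg Subtype.val e]; exact one_mem _)⟩⟩
  haveI := B.isPGroup'.center_nontrivial
  obtain ⟨⟨⟨z, hzB⟩, hzc⟩, hz⟩ := exists_ne (1 : center (B : Subgroup G))
  have hzd : z * d = d * z := congrArg Subtype.val (mem_center_iff.1 hzc ⟨d, hdB⟩).symm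
  have h1 : zpowers d ⊔ zpowers z = zpowers d := by
    refine hbound _ (B.isPGroup'.to_le (sup_le hB (zpowers_le.2 hzB))) (sup_le ?_ ?_)
      (mem_sup_left (mem_zpowers d))
    · exact zpowers_le.2 (mem_centralizer_singleton_iff.2 rfl)
    · exact zpowers_le.2 (mem_centralizer_singleton_iff.2 hzd)
  have hzz : z ∈ zpowers d := h1 ▸ mem_sup_right (mem_zpowers z)
  have hdz : d ∈ zpowers z := by
    have hne : z ≠ 1 := fun e => hz (Subtype.ext (Subtype.ext e))
    haveI : Fact (Nat.card (zpowers d)).Prime := ⟨by rw [Nat.card_zpowers, hdo]; exact h.hn⟩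
    have htop := (zpowers z).subgroupOf (zpowers d) |>.eq_bot_or_eq_top_of_prime_card
    rcases htop with e | e
    · have h3 : (⟨z, hzz⟩ : zpowers d) ∈ (zpowers z).subgroupOf (zpowers d) := mem_zpowers z
      rw [e, mem_bot] at h3
      exact absurd (congrArg Subtype.val h3) hne
    · exact (e ▸ mem_top (⟨d, mem_zpowers d⟩ : zpowers d) :
        (⟨d, mem_zpowers d⟩ : zpowers d) ∈ (zpowers z).subgroupOf (zpowers d))
  have hBK : (B : Subgroup G) ≤ K := by
    intro b hb
    obtain ⟨i, rfl⟩ := mem_zpowers_iff.1 hdz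
    have hbz : Commute b z := congrArg Subtype.val (mem_center_iff.1 hzc ⟨b, hb⟩)
    exact mem_centralizer_singleton_iff.2 (hbz.zpow_right i).eq
  have h2 := hbound B B.isPGroup' hBK hdB
  apply hnc
  obtain ⟨g, hg⟩ := MulAction.exists_smul_eq G B A
  rw [← hg, Sylow.coe_subgroup_smul, h2]
  haveI : IsCyclic (zpowers d) := isCyclic_zpowers d
  exact isCyclic_of_surjective _ ((Subgroup.equivSMul (MulAut.conj g) (zpowers d)).surjective)

theorem normalizer_le_centralizer (A : Sylow n G) :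
    normalizer ((A : Subgroup G) : Set G) ≤ centralizer ((A : Subgroup G) : Set G) := by
  have : Fact (Nat.Prime 2) := ⟨Nat.prime_two⟩
  haveI := Fact.mk h.hn
  haveI hcyc := h.isCyclic_sylow A
  set ψ := (A : Subgroup G).normalizerMonoidHom
  have hidx : Nat.card ψ.range ∣ n - 1 := by
    have h1 : Nat.card ψ.range ∣ Nat.totient (Nat.card (A : Subgroup G)) := by
      rw [← IsCyclic.card_mulAut]; exact card_subgroup_dvd_card _
    have h2 : ¬ n ∣ Nat.card ψ.range := by
      rw [← Subgroup.index_ker, normalizerMonoidHom_ker]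
      intro h2
      apply A.not_dvd_index
      rw [← relIndex_mul_index (le_normalizer : (A : Subgroup G) ≤ normalizer ((A : Subgroup G) : Set G))]
      refine Dvd.dvd.mul_right (h2.trans ?_) _
      exact relIndex_dvd_of_le_left _ (le_centralizer (A : Subgroup G))
    obtain ⟨l, hl⟩ := IsPGroup.iff_card.1 A.isPGroup'
    rw [hl] at h1
    rcases Nat.eq_zero_or_pos l with rfl | hl0
    · rw [pow_zero, Nat.totient_one] at h1
      exact h1.trans (one_dvd _)
    rw [Nat.totient_prime_pow h.hn hl0] at h1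
    exact ((h.hn.coprime_iff_not_dvd.2 h2).symm.pow_right _).dvd_of_dvd_mul_left h1
  intro g hg
  set m := ordCompl[2] (orderOf g)
  have hgk : ∀ i : ℕ, g ^ i ∈ centralizer ((A : Subgroup G) : Set G) ↔ ψ (⟨g, hg⟩ ^ i) = 1 := by
    intro i
    rw [← MonoidHom.mem_ker, normalizerMonoidHom_ker]
    exact Iff.rfl
  have hm : g ^ m ∈ centralizer ((A : Subgroup G) : Set G) := by
    have hP : IsPGroup 2 (zpowers (g ^ m)) := by
      refine IsPGroup.of_card (n := (orderOf g).factorization 2) ?_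
      rw [Nat.card_zpowers]
      exact orderOf_pow_orderOf_div (orderOf_pos g).ne' (Nat.ordProj_dvd _ _)
    have hsq := (h.two_group _ hP).2 _ (mem_zpowers (g ^ m))
    by_cases h1 : g ^ m = 1
    · rw [h1]; exact one_mem _
    have hi : orderOf (g ^ m) = 2 := orderOf_eq_prime hsq h1
    by_contra hnc
    obtain ⟨a, ha, hne⟩ : ∃ a ∈ (A : Subgroup G), a * g ^ m ≠ g ^ m * a := by
      by_contra! hall
      exact hnc (mem_centralizer_iff.2 hall)
    set z := a⁻¹ * (g ^ m * a * (g ^ m)⁻¹)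
    have hzA : z ∈ (A : Subgroup G) :=
      mul_mem (inv_mem ha) ((mem_normalizer_iff.1 (pow_mem hg m) a).1 ha)
    have hz1 : z ≠ 1 := fun e => hne (by
      rw [inv_mul_eq_one, eq_mul_inv_iff_mul_eq] at e
      exact e)
    obtain ⟨l, hl⟩ := IsPGroup.iff_orderOf.1 A.isPGroup' ⟨z, hzA⟩
    rw [orderOf_mk] at hl
    obtain ⟨d, hdN, hdc, k, hdk⟩ := h.exists_outer
    obtain ⟨u, huT, hu1, hdu⟩ := h.exists_fixed_involution hdN hdk
    refine h.conj.noReal.not_both h.hn h.hn2 (w := d) (v := z) ?_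
      (orderOf_eq_prime (h.elem.2 u huT) hu1) hdu.symm ?_ hi ?_
    · rw [hdk]
      refine dvd_pow_self n fun e => hdc ?_
      rw [e, pow_zero] at hdk
      rw [orderOf_eq_one_iff.1 hdk]; exact one_mem _
    · rw [hl]
      refine dvd_pow_self n fun e => hz1 ?_
      rw [e, pow_zero] at hl
      exact orderOf_eq_one_iff.1 hl
    · show g ^ m * (a⁻¹ * (g ^ m * a * (g ^ m)⁻¹)) * (g ^ m)⁻¹ = _
      rw [inv_eq_self_of_involution hi]
      simp only [mul_inv_rev, inv_inv, inv_eq_self_of_involution hi, mul_assoc, mul_self_eq_one hi,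
        mul_one, z]
  have hx4 : ψ (⟨g, hg⟩ ^ 4) = 1 := by
    have h1 : ψ.rangeRestrict (⟨g, hg⟩ ^ Nat.card ψ.range) = 1 := by
      rw [map_pow]; exact pow_card_eq_one'
    obtain ⟨j, hj⟩ := hidx.trans h.hn4
    rw [hj, pow_mul, map_pow, show ψ (⟨g, hg⟩ ^ Nat.card ψ.range) = 1 from congrArg Subtype.val h1,
      one_pow]
  rw [hgk, map_pow] at hm
  rw [map_pow] at hx4
  have hcop : Nat.Coprime m (2 ^ 2) :=
    ((Nat.prime_two.coprime_iff_not_dvd.2 (Nat.not_dvd_ordCompl Nat.prime_two (orderOf_pos g).ne')).symm).pow_right 2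
  have hx : ψ ⟨g, hg⟩ = 1 := orderOf_eq_one_iff.1 (Nat.eq_one_of_dvd_coprimes hcop
    (orderOf_dvd_of_pow_eq_one hm) (orderOf_dvd_of_pow_eq_one hx4))
  have := (hgk 1).2 (by rw [pow_one]; exact hx)
  rwa [pow_one] at this

end Outer

end CfsgLib.CGroup
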