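import Cfsg.Agent.Lib.CGroup.Setup

/-!
The stabiliser of two points in the action on the cosets of `N(T)`: it is the direct product of a
subgroup of order `2^n - 1` inverted by the involutions interchanging the points and of a subgroup
centralised by them and by the two fours groups.
-/

set_option autoImplicit false
set_option linter.unusedSectionVars false

namespace CfsgLib.CGroup

open Subgroup CfsgLib.Involutions
open CfsgLib.StrongEmbedding (exists_fixed fixed_unique card_swapping smul_self_of_involution)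
open CfsgLib.StrongEmbedding.ElementaryCentralizers (normT base twoStab involution_mem_T mem_twoStab
  mem_normT_iff)

universe u

variable {G : Type u} [Group G] [Finite G] {T : Sylow 2 G} {n : ℕ}

/-- The part of the two point stabiliser centralising `T`. -/
abbrev pairCore (T : Sylow 2 G) (y : G ⧸ normT T) : Subgroup G := twoStab T y ⊓ oddCent T

namespace Setup

variable (h : Setup T n)
include h

theorem fixes_base_iff {t : G} (ht : orderOf t = 2) :
    t • base T = base T ↔ t ∈ (T : Subgroup G) :=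
  ⟨fun e => involution_mem_T ht (mem_normT_iff.2 e),
    fun e => mem_normT_iff.1 (le_normalizer e)⟩

theorem fix_base_of_mem {g : G} (hg : g ∈ normT T) : g • base T = base T := mem_normT_iff.1 hg

theorem oddCent_fix_base {x : G} (hx : x ∈ oddCent T) : x • base T = base T :=
  h.fix_base_of_mem (centralizer_le_normalizer _ (oddCent_le hx))

theorem T_free {t : G} (ht : t ∈ (T : Subgroup G)) (ht1 : t ≠ 1) {y : G ⧸ normT T}
    (hy : y ≠ base T) : t • y ≠ y := fun e =>
  hy (fixed_unique h.stronglyEmbedded (h.involution ht ht1) e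
    (h.fix_base_of_mem (le_normalizer ht)))

theorem odd_twoStab {y : G ⧸ normT T} (hy : y ≠ base T) {d : G} (hd : d ∈ twoStab T y) :
    Odd (orderOf d) := by
  rw [← Nat.not_even_iff_odd]
  intro he
  have h2 := orderOf_pow_half he
  have hd' := pow_mem hd (orderOf d / 2)
  rw [mem_twoStab] at hd'
  exact hy (fixed_unique h.stronglyEmbedded h2 hd'.2 hd'.1)

theorem mem_pairCore_of {y : G ⧸ normT T} (hy : y ≠ base T) {d : G} (hd : d ∈ twoStab T y)
    (hc : d ∈ centralizer ((T : Subgroup G) : Set G)) : d ∈ pairCore T y :=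
  ⟨hd, h.mem_oddCent.2 ⟨hc, h.odd_twoStab hy hd⟩⟩

theorem card_swap {y : G ⧸ normT T} (hy : y ≠ base T) :
    Nat.card {i : G // orderOf i = 2 ∧ i • base T = y} = 2 ^ n - 1 := by
  classical
  rw [card_swapping h.stronglyEmbedded hy.symm]
  have : Nat.card {t : G // orderOf t = 2 ∧ t ∈ normT T} =
      Nat.card {x : (T : Subgroup G) // x ≠ 1} := by
    refine Nat.card_congr
      { toFun := fun t => ⟨⟨t.1, involution_mem_T t.2.1 t.2.2⟩,
          fun e => ne_one_of_involution t.2.1 (congrArg Subtype.val e)⟩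
        invFun := fun x => ⟨(x.1 : G), h.involution x.1.2 (fun e => x.2 (Subtype.ext e)),
          le_normalizer x.1.2⟩
        left_inv := fun t => rfl
        right_inv := fun x => rfl }
  rw [this, ← h.card_T]
  haveI := Fintype.ofFinite (T : Subgroup G)
  rw [Nat.card_eq_fintype_card, Fintype.card_subtype_compl, Fintype.card_subtype_eq,
    ← Nat.card_eq_fintype_card]

theorem exists_swap {y : G ⧸ normT T} (hy : y ≠ base T) :
    ∃ σ : G, orderOf σ = 2 ∧ σ • base T = y := by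
  have : Nonempty {i : G // orderOf i = 2 ∧ i • base T = y} :=
    (Nat.card_pos_iff.1 (by rw [h.card_swap hy]; exact h.prime.pos)).1
  exact ⟨this.some, this.some.2⟩

theorem swap_back {y : G ⧸ normT T} {σ : G} (hσ : orderOf σ = 2) (hσy : σ • base T = y) :
    σ • y = base T := by rw [← hσy, smul_self_of_involution hσ]

/-- An element of the normaliser inverted by an involution has order `2^n - 1` or one. -/
theorem orderOf_inverted {σ d : G} (hσ : orderOf σ = 2) (hd : d ∈ normT T)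
    (hodd : Odd (orderOf d)) (hinv : σ * d * σ⁻¹ = d⁻¹) (hd1 : d ≠ 1) :
    orderOf d = 2 ^ n - 1 ∧ d ∉ centralizer ((T : Subgroup G) : Set G) := by
  obtain ⟨t, ht, ht1⟩ := h.exists_involution
  have key : ∀ k : ℕ, d ^ k ∈ centralizer ((T : Subgroup G) : Set G) → d ^ k = 1 := fun k hk =>
    h.noReal.eq_one (Odd.of_dvd_nat hodd (orderOf_pow_dvd k)) (h.involution ht ht1)
      (mem_centralizer_iff.1 hk t ht) hσ (inverts_pow hinv k)
  refine ⟨?_, fun hc => hd1 (by simpa using key 1 (by simpa using hc))⟩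
  have hp := h.prime
  haveI : Fact (2 ^ n - 1).Prime := ⟨hp⟩
  refine orderOf_eq_prime (key _ ?_) hd1
  have h1 : (T : Subgroup G).normalizerMonoidHom.rangeRestrict (⟨d, hd⟩ ^ (2 ^ n - 1)) = 1 := by
    rw [map_pow, ← h.index, relIndex, ← normalizerMonoidHom_ker, Subgroup.index_ker]
    exact pow_card_eq_one'
  have h2 : (⟨d, hd⟩ ^ (2 ^ n - 1) : normT T) ∈ (T : Subgroup G).normalizerMonoidHom.ker :=
    MonoidHom.mem_ker.2 (congrArg Subtype.val h1)
  rw [normalizerMonoidHom_ker] at h2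
  exact h2

theorem exists_inverted {y : G ⧸ normT T} (hy : y ≠ base T) {σ : G} (hσ : orderOf σ = 2)
    (hσy : σ • base T = y) :
    ∃ σ' : G, orderOf σ' = 2 ∧ σ' • base T = y ∧ orderOf (σ * σ') = 2 ^ n - 1 ∧
      σ * σ' ∈ twoStab T y ∧ σ * σ' ∉ centralizer ((T : Subgroup G) : Set G) := by
  haveI : Nontrivial {i : G // orderOf i = 2 ∧ i • base T = y} :=
    Finite.one_lt_card_iff_nontrivial.1 (by rw [h.card_swap hy]; exact h.prime.one_lt)
  obtain ⟨⟨σ', hσ', hσ'y⟩, hne⟩ :=
    exists_ne (⟨σ, hσ, hσy⟩ : {i : G // orderOf i = 2 ∧ i • base T = y})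
  have hd : σ * σ' ∈ twoStab T y :=
    mem_twoStab.2 ⟨by rw [mul_smul, hσ'y, h.swap_back hσ hσy],
      by rw [mul_smul, h.swap_back hσ' hσ'y, hσy]⟩
  have hd1 : σ * σ' ≠ 1 := by
    intro e
    apply hne
    refine Subtype.ext ?_
    show σ' = σ
    rw [← inv_eq_self_of_involution hσ, eq_inv_of_mul_eq_one_right e]
  obtain ⟨h1, h2⟩ := h.orderOf_inverted hσ (mem_normT_iff.2 (mem_twoStab.1 hd).1)
    (h.odd_twoStab hy hd) (left_inverts_prod hσ hσ') hd1
  exact ⟨σ', hσ', hσ'y, h1, hd, h2⟩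

theorem exists_ne_base : ∃ y : G ⧸ normT T, y ≠ base T := by
  obtain ⟨u, hu, huH⟩ := CfsgLib.StrongEmbedding.exists_involution_notMem h.stronglyEmbedded
  exact ⟨u • base T, fun e => huH (mem_normT_iff.2 e)⟩

/-- No element of order `2^n - 1` commutes with an involution. -/
theorem not_commute_of_orderOf {x i : G} (hx : orderOf x = 2 ^ n - 1) (hi : orderOf i = 2)
    (hc : Commute i x) : False := by
  obtain ⟨y, hy⟩ := h.exists_ne_base
  obtain ⟨σ, hσ, hσy⟩ := h.exists_swap hy
  obtain ⟨σ', hσ', -, hd, -, -⟩ := h.exists_inverted hy hσ hσy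
  refine h.noReal _ x (σ * σ') i σ h.prime ?_ hx hi hc hd hσ (left_inverts_prod hσ hσ')
  have := h.four_le
  omega

theorem coprime_oddCent {x : G} (hx : x ∈ oddCent T) : ¬ (2 ^ n - 1) ∣ orderOf x := by
  intro hd
  obtain ⟨t, ht, ht1⟩ := h.exists_involution
  exact h.not_commute_of_orderOf (commute_pow_of_dvd hd (orderOf_pos x).ne') (h.involution ht ht1)
    ((commute_oddCent hx ht).pow_right _)

/-- A power of an element of order `2^n - 1` accounts for any element of the normaliser modulo the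
centraliser. -/
theorem exists_pow_mul {d g : G} (hd : d ∈ normT T)
    (hdc : d ∉ centralizer ((T : Subgroup G) : Set G)) (hg : g ∈ normT T) :
    ∃ k : ℕ, (d ^ k)⁻¹ * g ∈ centralizer ((T : Subgroup G) : Set G) := by
  have hp := h.prime
  haveI : Fact (2 ^ n - 1).Prime := ⟨hp⟩
  set ψ := (T : Subgroup G).normalizerMonoidHom
  have hR : Nat.card ψ.range = 2 ^ n - 1 := by
    rw [← h.index, relIndex, ← Subgroup.index_ker, normalizerMonoidHom_ker]
  have hne : ψ.rangeRestrict ⟨d, hd⟩ ≠ 1 := by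
    intro e
    have hk : (⟨d, hd⟩ : normT T) ∈ ψ.ker := MonoidHom.mem_ker.2 (congrArg Subtype.val e)
    rw [normalizerMonoidHom_ker] at hk
    exact hdc hk
  obtain ⟨k, hk⟩ := mem_powers_iff_mem_zpowers.2
    ((zpowers_eq_top_of_prime_card hR hne).symm ▸ Subgroup.mem_top (ψ.rangeRestrict ⟨g, hg⟩) :
      ψ.rangeRestrict ⟨g, hg⟩ ∈ zpowers (ψ.rangeRestrict ⟨d, hd⟩))
  refine ⟨k, ?_⟩
  have hk' : ((⟨d, hd⟩ : normT T) ^ k)⁻¹ * ⟨g, hg⟩ ∈ ψ.ker := by
    rw [MonoidHom.mem_ker, map_mul, map_inv, map_pow, inv_mul_eq_one]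
    exact congrArg Subtype.val hk
  rw [normalizerMonoidHom_ker] at hk'
  exact hk'

theorem exists_pairCore_decomp {y : G ⧸ normT T} (hy : y ≠ base T) {d₀ d : G}
    (hd₀ : d₀ ∈ twoStab T y) (hd₀c : d₀ ∉ centralizer ((T : Subgroup G) : Set G))
    (hd : d ∈ twoStab T y) : ∃ k : ℕ, ∃ r ∈ pairCore T y, d = d₀ ^ k * r := by
  obtain ⟨k, hk⟩ := h.exists_pow_mul (mem_normT_iff.2 (mem_twoStab.1 hd₀).1) hd₀c
    (mem_normT_iff.2 (mem_twoStab.1 hd).1)
  exact ⟨k, _, h.mem_pairCore_of hy (mul_mem (inv_mem (pow_mem hd₀ k)) hd) hk,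
    (mul_inv_cancel_left _ _).symm⟩

/-- The involutions interchanging the two points centralise the common odd centraliser. -/
theorem commute_swap {y : G ⧸ normT T} (hy : y ≠ base T) {σ r : G} (hσ : orderOf σ = 2)
    (hσy : σ • base T = y) (hr : r ∈ pairCore T y) : Commute σ r := by
  obtain ⟨hrD, hrX⟩ := hr
  obtain ⟨σ', hσ', hσ'y, hdo, hdD, hdc⟩ := h.exists_inverted hy hσ hσy
  set d₀ := σ * σ'
  have hr' : σ * r * σ⁻¹ ∈ twoStab T y := by
    rw [mem_twoStab, inv_eq_self_of_involution hσ] at *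
    constructor
    · rw [mul_smul, mul_smul, hσy, hrD.2, h.swap_back hσ hσy]
    · rw [mul_smul, mul_smul, h.swap_back hσ hσy, hrD.1, hσy]
  have hd : r⁻¹ * (σ * r * σ⁻¹) ∈ twoStab T y := mul_mem (inv_mem hrD) hr'
  have hinv : σ * (r⁻¹ * (σ * r * σ⁻¹)) * σ⁻¹ = (r⁻¹ * (σ * r * σ⁻¹))⁻¹ := by
    rw [inv_eq_self_of_involution hσ]
    simp only [mul_inv_rev, inv_inv, inv_eq_self_of_involution hσ, mul_assoc, mul_self_eq_one hσ,
      mul_one]
  by_cases hd1 : r⁻¹ * (σ * r * σ⁻¹) = 1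
  · rw [inv_mul_eq_one] at hd1
    show σ * r = r * σ
    nth_rewrite 2 [hd1]
    group
  exfalso
  obtain ⟨-, hnc⟩ := h.orderOf_inverted hσ (mem_normT_iff.2 (mem_twoStab.1 hd).1)
    (h.odd_twoStab hy hd) hinv hd1
  refine hnc (mul_mem (inv_mem (oddCent_le hrX)) ?_)
  -- an element of the two point stabiliser of order prime to `2^n - 1` centralises `T`
  have hp := h.prime
  set ψ := (T : Subgroup G).normalizerMonoidHom
  have hgN : σ * r * σ⁻¹ ∈ normT T := mem_normT_iff.2 (mem_twoStab.1 hr').1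
  have h1 : orderOf (ψ.rangeRestrict ⟨σ * r * σ⁻¹, hgN⟩) = 1 := by
    refine Nat.eq_one_of_dvd_coprimes (hp.coprime_iff_not_dvd.2 (h.coprime_oddCent hrX)) ?_ ?_
    · rw [← h.index, relIndex, ← normalizerMonoidHom_ker, Subgroup.index_ker]
      exact orderOf_dvd_natCard _
    · refine (orderOf_map_dvd ψ.rangeRestrict _).trans ?_
      rw [orderOf_mk, orderOf_conj_eq]
  have hk : (⟨σ * r * σ⁻¹, hgN⟩ : normT T) ∈ ψ.ker :=
    MonoidHom.mem_ker.2 (congrArg Subtype.val (orderOf_eq_one_iff.1 h1))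
  rw [normalizerMonoidHom_ker] at hk
  exact hk

/-- The common odd centraliser centralises both fours groups. -/
theorem commute_pairCore {y : G ⧸ normT T} (hy : y ≠ base T) {r t : G} (hr : r ∈ pairCore T y)
    (ht : orderOf t = 2) (hty : t • y = y) : Commute t r := by
  obtain ⟨σ, hσ, hσy⟩ := h.exists_swap hy
  have hs : σ * t * σ⁻¹ ∈ (T : Subgroup G) := by
    rw [← h.fixes_base_iff ((orderOf_conj_eq σ t).trans ht), inv_eq_self_of_involution hσ,
      mul_smul, mul_smul, hσy, hty, h.swap_back hσ hσy]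
  have h1 : Commute (σ * t * σ⁻¹) r := commute_oddCent hr.2 hs
  have h2 : Commute σ r := h.commute_swap hy hσ hσy hr
  have h3 := ((h2.inv_left.mul_left h1).mul_left h2)
  rwa [show σ⁻¹ * (σ * t * σ⁻¹) * σ = t by group] at h3

/-- The square of an element interchanging the two points lies in the common odd centraliser. -/
theorem swap_sq {y : G ⧸ normT T} (hy : y ≠ base T) {g : G} (hg1 : g • base T = y)
    (hg2 : g • y = base T) : g * g ∈ pairCore T y := by
  obtain ⟨σ, hσ, hσy⟩ := h.exists_swap hy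
  obtain ⟨σ', hσ', hσ'y, hdo, hdD, hdc⟩ := h.exists_inverted hy hσ hσy
  set d₀ := σ * σ' with hd₀
  have hd : σ * g ∈ twoStab T y :=
    mem_twoStab.2 ⟨by rw [mul_smul, hg1, h.swap_back hσ hσy], by rw [mul_smul, hg2, hσy]⟩
  obtain ⟨k, r, hr, hkr⟩ := h.exists_pairCore_decomp hy hdD hdc hd
  have hg : g = σ * (d₀ ^ k * r) := by
    rw [← hkr, ← mul_assoc, mul_self_eq_one hσ, one_mul]
  have hinv : σ * d₀ ^ k * σ = (d₀ ^ k)⁻¹ := by
    nth_rewrite 2 [← inv_eq_self_of_involution hσ]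
    exact inverts_pow (left_inverts_prod hσ hσ') k
  have hcd : Commute (d₀ ^ k) r :=
    ((h.commute_swap hy hσ hσy hr).mul_left (h.commute_swap hy hσ' hσ'y hr)).pow_left k
  have : g * g = r * r := by
    rw [hg]
    calc σ * (d₀ ^ k * r) * (σ * (d₀ ^ k * r))
        = σ * d₀ ^ k * (r * σ) * (d₀ ^ k * r) := by group
      _ = (σ * d₀ ^ k * σ) * (r * d₀ ^ k) * r := by
          rw [← (h.commute_swap hy hσ hσy hr).eq]; group
      _ = r * r := by rw [hinv, ← hcd.eq]; group
  rw [this]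
  exact mul_mem hr hr

theorem exists_conj_pair {x z y : G ⧸ normT T} (hy : y ≠ base T) (hxz : x ≠ z) :
    ∃ g : G, g • base T = x ∧ g • y = z := by
  obtain ⟨g, hg⟩ := MulAction.exists_smul_eq G (base T) x
  have hz : g⁻¹ • z ≠ base T := fun e => hxz (by rw [← hg, ← e, smul_inv_smul])
  obtain ⟨d, hd1, hd2⟩ := h.trans_others (base T) y (g⁻¹ • z) hy hz
  exact ⟨g * d, by rw [mul_smul, hd1, hg], by rw [mul_smul, hd2, smul_inv_smul]⟩

/-- The same, for any two points. -/
theorem swap_sq_commute {x z : G ⧸ normT T} (hxz : x ≠ z) {g : G} (hg1 : g • x = z)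
    (hg2 : g • z = x) {t : G} (ht : orderOf t = 2) (htx : t • x = x) : Commute t (g * g) := by
  obtain ⟨y, hy⟩ := h.exists_ne_base
  obtain ⟨c, hc1, hc2⟩ := h.exists_conj_pair hy hxz
  have hb : ∀ v : G ⧸ normT T, c⁻¹ • (c • v) = v := fun v => inv_smul_smul c v
  have h1 := h.swap_sq hy (g := c⁻¹ * g * c)
    (by rw [mul_smul, mul_smul, hc1, hg1, ← hc2, hb])
    (by rw [mul_smul, mul_smul, hc2, hg2, ← hc1, hb])
  have h2 : c⁻¹ * t * c ∈ (T : Subgroup G) := by
    refine (h.fixes_base_iff ?_).1 (by rw [mul_smul, mul_smul, hc1, htx, ← hc1, hb])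
    simpa using (orderOf_conj_eq c⁻¹ t).trans ht
  have h3 := (commute_oddCent h1.2 h2).map (MulAut.conj c)
  simp only [MulAut.conj_apply] at h3
  rwa [show c * (c⁻¹ * t * c) * c⁻¹ = t by group,
    show c * (c⁻¹ * g * c * (c⁻¹ * g * c)) * c⁻¹ = g * g by group] at h3

end Setup

end CfsgLib.CGroup
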