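import Cfsg.Agent.Lib.CGroup.Pair

/-!
Proper subgroups containing two fours groups.
-/

set_option autoImplicit false
set_option linter.unusedSectionVars false

namespace CfsgLib.CGroup

open Subgroup CfsgLib.Involutions
open CfsgLib.StrongEmbedding (exists_fixed fixed_unique)
open CfsgLib.StrongEmbedding.ElementaryCentralizers (normT base twoStab involution_mem_T mem_twoStab
  mem_normT_iff)

universe u

variable {G : Type u} [Group G] [Finite G] {T : Sylow 2 G} {n : ℕ}

/-- The odd part of the centraliser of `T` lies in the odd core. -/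
def CoreProp (G : Type u) [Group G] : Prop :=
  ∀ (T : Sylow 2 G) (n : ℕ), Setup T n → oddCent T ≤ Cfsg.oddCore G

/-- The inductive hypothesis: the property holds in all proper subgroups. -/
def ProperProp (G : Type u) [Group G] : Prop := ∀ M : Subgroup G, M ≠ ⊤ → CoreProp M

namespace Setup

variable (h : Setup T n)
include h

theorem conj_fixes {y : G ⧸ normT T} {g t : G} (hg : g • base T = y) (ht : t ∈ (T : Subgroup G)) :
    (g * t * g⁻¹) • y = y := by
  rw [← hg, mul_smul, mul_smul, inv_smul_smul, h.fix_base_of_mem (le_normalizer ht)]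

/-- An element commuting with all involutions fixing a point fixes that point. -/
theorem smul_eq_of_commute {y : G ⧸ normT T} {x : G}
    (hx : ∀ t : G, orderOf t = 2 → t • y = y → Commute t x) : x • y = y := by
  obtain ⟨t₀, ht₀, ht1⟩ := h.exists_involution
  obtain ⟨g, hg⟩ := MulAction.exists_smul_eq G (base T) y
  have ht : orderOf (g * t₀ * g⁻¹) = 2 := (orderOf_conj_eq g t₀).trans (h.involution ht₀ ht1)
  have hfix := h.conj_fixes hg ht₀
  refine fixed_unique h.stronglyEmbedded ht ?_ hfix
  rw [← mul_smul, (hx _ ht hfix).eq, mul_smul, hfix]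

theorem inf_le_pairCore (hI : ProperProp G) {y : G ⧸ normT T} (hy : y ≠ base T) {M : Subgroup G}
    (hM : M ≠ ⊤) (hTM : (T : Subgroup G) ≤ M) (hyM : ∀ t : G, orderOf t = 2 → t • y = y → t ∈ M) :
    M ⊓ oddCent T ≤ pairCore T y := by
  have : Fact (Nat.Prime 2) := ⟨Nat.prime_two⟩
  rintro x ⟨hxM, hxX⟩
  set TM : Sylow 2 M := T.subtype hTM with hTMdef
  obtain ⟨t₀, ht₀, ht1⟩ := h.exists_involution
  obtain ⟨g, hg⟩ := MulAction.exists_smul_eq G (base T) y
  have hVM : ∀ t ∈ (T : Subgroup G), g * t * g⁻¹ ∈ M := by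
    intro t ht
    by_cases h1 : t = 1
    · simp [h1]
    exact hyM _ ((orderOf_conj_eq g t).trans (h.involution ht h1)) (h.conj_fixes hg ht)
  have hnn : ¬ (TM : Subgroup M).Normal := by
    intro hN
    have hmem : g * t₀ * g⁻¹ ∈ normT T := by
      refine CfsgLib.Coprime.mem_normalizer_of_forall_conj fun z hz => ?_
      exact hN.conj_mem ⟨z, hTM hz⟩ hz ⟨_, hVM t₀ ht₀⟩
    exact hy (fixed_unique h.stronglyEmbedded
      ((orderOf_conj_eq g t₀).trans (h.involution ht₀ ht1)) (h.conj_fixes hg ht₀)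
      (h.fix_base_of_mem hmem))
  have helem : Cfsg.IsElementaryAbelian 2 (TM : Subgroup M) :=
    ⟨⟨⟨fun a b => Subtype.ext (Subtype.ext (h.comm a.2 b.2).eq)⟩⟩,
      fun a ha => Subtype.ext (by simpa using h.sq_eq_one ha)⟩
  have hcard : Nat.card (TM : Subgroup M) = 2 ^ n := by
    rw [← h.card_T]; exact Nat.card_congr (subgroupOfEquivOfLe hTM).toEquiv
  let ι : normT TM →* normT T :=
    { toFun := fun a => ⟨((a : M) : G), by
        refine CfsgLib.Coprime.mem_normalizer_of_forall_conj fun z hz => ?_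
        exact (mem_normalizer_iff.1 a.2 ⟨z, hTM hz⟩).1 hz⟩
      map_one' := rfl
      map_mul' := fun _ _ => rfl }
  set ψ := (T : Subgroup G).normalizerMonoidHom
  have hker : (ψ.comp ι).ker = (centralizer ((TM : Subgroup M) : Set M)).subgroupOf (normT TM) := by
    ext a
    rw [MonoidHom.mem_ker, MonoidHom.comp_apply, ← MonoidHom.mem_ker, normalizerMonoidHom_ker,
      mem_subgroupOf, mem_subgroupOf, mem_centralizer_iff, mem_centralizer_iff]
    exact ⟨fun e z hz => Subtype.ext (e (z : G) hz),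
      fun e z hz => congrArg Subtype.val (e ⟨z, hTM hz⟩ hz)⟩
  have hdvd : (centralizer ((TM : Subgroup M) : Set M)).relIndex (normT TM) ∣ 2 ^ n - 1 := by
    rw [relIndex, ← hker, Subgroup.index_ker, ← h.index, relIndex, ← normalizerMonoidHom_ker,
      Subgroup.index_ker]
    exact card_dvd_of_le (by rintro _ ⟨a, rfl⟩; exact ⟨ι a, rfl⟩)
  have hindex : (centralizer ((TM : Subgroup M) : Set M)).relIndex (normT TM) = 2 ^ n - 1 := by
    refine ((Nat.dvd_prime h.prime).1 hdvd).resolve_left fun e => hnn ?_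
    obtain ⟨S, N, hN, hc⟩ :=
      CfsgLib.Transfer.hasNormalPComplement_of_normalizer_le TM (relIndex_eq_one.1 e)
    have hNodd : Odd (Nat.card N) := by
      rw [← Nat.not_even_iff_odd, even_iff_two_dvd]
      intro h2
      apply S.not_dvd_index
      rwa [hc.index_eq_card]
    haveI := helem.1
    have hnc : ¬ IsCyclic (TM : Subgroup M) := fun hcyc =>
      haveI : IsCyclic ((T : Subgroup G).subgroupOf M) := hcyc
      h.not_cyclic (isCyclic_of_surjective _ (subgroupOfEquivOfLe hTM).surjective)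
    have hcen := (h.noReal.subgroup M).four_centralizes helem.2 hnc hNodd
      (le_normalizer_of_normal.trans' le_top)
    have hsup : N ⊔ (TM : Subgroup M) = ⊤ := by
      have hST : Nat.card S = Nat.card (TM : Subgroup M) := by
        rw [Sylow.card_eq_multiplicity, Sylow.card_eq_multiplicity TM]
      refine (Subgroup.isComplement'_of_coprime ?_ ?_).sup_eq_top
      · rw [← hST, hc.card_mul]
      · rw [hcard]
        exact ((Nat.coprime_two_left.2 hNodd).pow_left n).symm
    refine normalizer_eq_top_iff.1 (eq_top_iff.2 ?_)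
    rw [← hsup, sup_le_iff]
    exact ⟨hcen.trans (centralizer_le_normalizer _), le_normalizer⟩
  have hS : Setup TM n := ⟨h.noReal.subgroup M, helem, h.two_le, hcard, h.prime, hnn, hindex⟩
  have hxO : (⟨x, hxM⟩ : M) ∈ Cfsg.oddCore M := by
    refine hI M hM TM n hS (hS.mem_oddCent.2 ⟨?_, ?_⟩)
    · exact mem_centralizer_iff.2 fun z hz =>
        Subtype.ext (mem_centralizer_iff.1 (oddCent_le hxX) _ hz)
    · rw [orderOf_mk]; exact (h.mem_oddCent.1 hxX).2
  -- the fours group at `y` centralises the odd core of `M`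
  set V := (T : Subgroup G).map (MulAut.conj g).toMonoidHom with hV
  haveI : IsMulCommutative V := ⟨⟨by
    rintro ⟨_, a, ha, rfl⟩ ⟨_, b, hb, rfl⟩
    exact Subtype.ext ((h.comm ha hb).map _).eq⟩⟩
  have hV2 : ∀ v ∈ V, v ^ 2 = 1 := by
    rintro _ ⟨a, ha, rfl⟩
    rw [← map_pow, h.sq_eq_one ha, map_one]
  have hnc : ¬ IsCyclic V := fun hcyc => h.not_cyclic
    haveI : IsCyclic ((T : Subgroup G).map (MulAut.conj g).toMonoidHom) := hcyc
    (isCyclic_of_surjective ((T : Subgroup G).equivMapOfInjective (MulAut.conj g).toMonoidHom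
      (MulAut.conj g).injective).symm (MulEquiv.surjective _))
  have hodd : Odd (Nat.card ((Cfsg.oddCore M).map M.subtype)) := by
    rw [card_map_of_injective (subtype_injective _)]; exact odd_card_oddCore _
  have hnorm : V ≤ normalizer (((Cfsg.oddCore M).map M.subtype : Subgroup G) : Set G) := by
    rintro _ ⟨a, ha, rfl⟩
    refine CfsgLib.Coprime.mem_normalizer_of_forall_conj ?_
    rintro _ ⟨z, hz, rfl⟩
    exact ⟨_, (inferInstance : (Cfsg.oddCore M).Normal).conj_mem z hz ⟨_, hVM a ha⟩, rfl⟩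
  have hcen := h.noReal.four_centralizes hV2 hnc hodd hnorm ⟨_, hxO, rfl⟩
  refine ⟨mem_twoStab.2 ⟨h.oddCent_fix_base hxX, h.smul_eq_of_commute fun t ht hty => ?_⟩, hxX⟩
  refine mem_centralizer_iff.1 hcen t ?_
  refine ⟨g⁻¹ * t * g, ?_, ?_⟩
  · refine (h.fixes_base_iff ?_).1 (by rw [mul_smul, mul_smul, hg, hty, ← hg, inv_smul_smul])
    simpa using (orderOf_conj_eq g⁻¹ t).trans ht
  · show g * (g⁻¹ * t * g) * g⁻¹ = t
    group

theorem eq_bot_of_fixed (hO : Cfsg.oddCore G = ⊥) {y : G ⧸ normT T} (hy : y ≠ base T)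
    (hX : oddCent T ≤ pairCore T y) : oddCent T = ⊥ := by
  rw [eq_bot_iff]
  intro x hx
  rw [mem_bot]
  refine h.faithful hO fun z => ?_
  by_cases hz : z = base T
  · rw [hz]; exact h.oddCent_fix_base hx
  obtain ⟨c, hc1, hc2⟩ := h.trans_others (base T) y z hy hz
  have hc := mem_normT_iff.2 hc1
  have h2 : c⁻¹ * x * c ∈ oddCent T := by simpa using h.oddCent_normal_in (inv_mem hc) hx
  have h3 := (mem_twoStab.1 (hX h2).1).2
  rw [mul_smul, mul_smul, hc2, inv_smul_eq_iff] at h3
  rw [h3, hc2]

/-- The normaliser in the odd centraliser of a non-trivial subgroup of the common part stays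
there. -/
theorem normalizer_inf_le (hI : ProperProp G) (hO : Cfsg.oddCore G = ⊥) {y : G ⧸ normT T}
    (hy : y ≠ base T) {A : Subgroup G} (hA : A ≤ pairCore T y) (hA1 : A ≠ ⊥) :
    normalizer (A : Set G) ⊓ oddCent T ≤ pairCore T y := by
  have hM : normalizer (A : Set G) ≠ ⊤ := by
    intro htop
    haveI := normalizer_eq_top_iff.1 htop
    refine hA1 (eq_bot_iff.2 (le_trans ?_ hO.le))
    refine CfsgLib.PCore.le_pPrimeCore inferInstance (Nat.coprime_two_right.2 ?_)
    exact odd_card_oddCent.of_dvd_nat (card_dvd_of_le (hA.trans inf_le_right))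
  refine h.inf_le_pairCore hI hy hM (fun t ht => ?_) (fun t ht hty => ?_)
  · refine centralizer_le_normalizer _ (mem_centralizer_iff.2 fun a ha => ?_)
    exact (commute_oddCent (hA ha).2 ht).symm.eq
  · refine centralizer_le_normalizer _ (mem_centralizer_iff.2 fun a ha => ?_)
    exact (h.commute_pairCore hy (hA ha) ht hty).symm.eq

end Setup

end CfsgLib.CGroup
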