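import Cfsg.Agent.Lib.CGroup.Proper
import Cfsg.Agent.Lib.Zass29.FeitTheorem

/-!
The case of a trivial common part: the action is a Zassenhaus group and Feit's inequality applies.
-/

set_option autoImplicit false
set_option linter.unusedSectionVars false

namespace CfsgLib.CGroup

open Subgroup CfsgLib.Involutions
open CfsgLib.StrongEmbedding (exists_fixed fixed_unique smul_self_of_involution)
open CfsgLib.StrongEmbedding.ElementaryCentralizers (normT base twoStab involution_mem_T mem_twoStab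
  mem_normT_iff)
open CfsgLib.PermSmall.Zassenhaus (pairStab)

universe u

variable {G : Type u} [Group G] [Finite G] {T : Sylow 2 G} {n : ℕ}

namespace Setup

variable (h : Setup T n)
include h

/-- An odd power of any element is an involution or trivial. -/
theorem exists_odd_pow_sq (g : G) : ∃ m : ℕ, Odd m ∧ (g ^ m) ^ 2 = 1 := by
  have : Fact (Nat.Prime 2) := ⟨Nat.prime_two⟩
  set o := orderOf g
  refine ⟨ordCompl[2] o, ?_, ?_⟩
  · rw [← Nat.not_even_iff_odd, even_iff_two_dvd]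
    exact Nat.not_dvd_ordCompl Nat.prime_two (orderOf_pos g).ne'
  · set x := g ^ ordCompl[2] o with hx
    have hP : IsPGroup 2 (zpowers x) := by
      intro ⟨z, hz⟩
      obtain ⟨k, rfl⟩ := mem_zpowers_iff.1 hz
      refine ⟨o.factorization 2, Subtype.ext ?_⟩
      show (x ^ k) ^ (2 ^ o.factorization 2) = 1
      rw [← zpow_natCast (x ^ k), ← zpow_mul, mul_comm, zpow_mul, zpow_natCast, hx, ← pow_mul,
        mul_comm (ordCompl[2] o), Nat.ordProj_mul_ordCompl_eq_self, pow_orderOf_eq_one, one_zpow]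
    obtain ⟨P, hP'⟩ := hP.exists_le_sylow
    obtain ⟨c, hc⟩ := MulAction.exists_smul_eq G T P
    have hxP := hP' (mem_zpowers x)
    rw [← hc, Sylow.coe_subgroup_smul] at hxP
    obtain ⟨z, hz, hzx⟩ := hxP
    rw [← hzx]
    show (MulAut.conj c z) ^ 2 = 1
    rw [← map_pow, h.sq_eq_one hz, map_one]

theorem not_inverts_fixed {u d : G} {v : G ⧸ normT T} (hu : orderOf u = 2) (huv : u • v = v)
    (hd : Odd (orderOf d)) (hd1 : d ≠ 1) (hdv : d • v = v) (hinv : u * d * u⁻¹ = d⁻¹) : False := by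
  obtain ⟨c, hc⟩ := MulAction.exists_smul_eq G (base T) v
  have hb : ∀ w : G ⧸ normT T, c⁻¹ • (c • w) = w := fun w => inv_smul_smul c w
  have hu' : c⁻¹ * u * c ∈ (T : Subgroup G) := by
    refine (h.fixes_base_iff ?_).1 (by rw [mul_smul, mul_smul, hc, huv, ← hc, hb])
    simpa using (orderOf_conj_eq c⁻¹ u).trans hu
  have hd' : c⁻¹ * d * c ∈ normT T :=
    mem_normT_iff.2 (by rw [mul_smul, mul_smul, hc, hdv, ← hc, hb])
  have h3 : (c⁻¹ * d * c)⁻¹ * ((c⁻¹ * u * c) * (c⁻¹ * d * c) * (c⁻¹ * u * c)⁻¹) ∈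
      (T : Subgroup G) := by
    have h1 := mul_mem ((mem_normalizer_iff''.1 hd' _).1 hu') (inv_mem hu')
    simpa [mul_assoc] using h1
  have h4 : (c⁻¹ * u * c) * (c⁻¹ * d * c) * (c⁻¹ * u * c)⁻¹ = (c⁻¹ * d * c)⁻¹ := by
    calc _ = c⁻¹ * (u * d * u⁻¹) * c := by group
      _ = _ := by rw [hinv]; group
  rw [h4] at h3
  have h5 := h.sq_eq_one h3
  have h6 : (c⁻¹ * d * c) ^ 4 = 1 := by
    rw [show (4 : ℕ) = 2 * 2 from rfl, pow_mul, ← inv_eq_one, ← inv_pow]
    rw [show ((c⁻¹ * d * c) ^ 2)⁻¹ = (c⁻¹ * d * c)⁻¹ * (c⁻¹ * d * c)⁻¹ by rw [pow_two, mul_inv_rev]]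
    exact h5
  have h7 : orderOf d ∣ 4 := by
    have h8 := orderOf_conj_eq c⁻¹ d
    rw [inv_inv] at h8
    rw [← h8]
    exact orderOf_dvd_of_pow_eq_one h6
  apply hd1
  rw [← orderOf_eq_one_iff]
  refine Nat.eq_one_of_dvd_coprimes ?_ dvd_rfl h7
  rw [show (4 : ℕ) = 2 ^ 2 from rfl]
  exact ((Nat.coprime_two_left.2 hd).pow_left 2).symm

section SemiregularCase

variable {y : G ⧸ normT T}

theorem twoStab_mem_iff_conj (hy : y ≠ base T) {c : G} {x z : G ⧸ normT T} (hc1 : c • base T = x)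
    (hc2 : c • y = z) {d : G} : (d • x = x ∧ d • z = z) ↔ c⁻¹ * d * c ∈ twoStab T y := by
  rw [mem_twoStab, mul_smul, mul_smul, mul_smul, mul_smul, hc1, hc2, inv_smul_eq_iff,
    inv_smul_eq_iff, hc1, hc2]

theorem twoStab_eq_zpowers (hy : y ≠ base T) (hR : pairCore T y = ⊥) {d₀ : G}
    (hd₀ : d₀ ∈ twoStab T y) (hd₀c : d₀ ∉ centralizer ((T : Subgroup G) : Set G)) :
    twoStab T y = zpowers d₀ := by
  refine le_antisymm (fun d hd => ?_) (zpowers_le.2 hd₀)
  obtain ⟨k, r, hr, rfl⟩ := h.exists_pairCore_decomp hy hd₀ hd₀c hd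
  rw [hR, mem_bot] at hr
  rw [hr, mul_one]
  exact npow_mem_zpowers _ _

theorem card_twoStab (hy : y ≠ base T) (hR : pairCore T y = ⊥) :
    Nat.card (twoStab T y) = 2 ^ n - 1 := by
  obtain ⟨σ, hσ, hσy⟩ := h.exists_swap hy
  obtain ⟨σ', -, -, hdo, hdD, hdc⟩ := h.exists_inverted hy hσ hσy
  rw [h.twoStab_eq_zpowers hy hR hdD hdc, Nat.card_zpowers, hdo]

theorem swap_inverts (hy : y ≠ base T) (hR : pairCore T y = ⊥) {x z : G ⧸ normT T} (hxz : x ≠ z)
    {d i : G} (hd : orderOf d = 2 ^ n - 1) (hdx : d • x = x) (hdz : d • z = z) (hi : orderOf i = 2)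
    (hix : i • x = z) : i * d * i⁻¹ = d⁻¹ := by
  obtain ⟨c, hc1, hc2⟩ := h.exists_conj_pair hy hxz
  obtain ⟨σ', hσ', -, hdo, hdD, hdc⟩ : ∃ σ' : G, orderOf σ' = 2 ∧ σ' • base T = y ∧
      orderOf (c⁻¹ * i * c * σ') = 2 ^ n - 1 ∧ c⁻¹ * i * c * σ' ∈ twoStab T y ∧
      c⁻¹ * i * c * σ' ∉ centralizer ((T : Subgroup G) : Set G) := by
    refine h.exists_inverted hy (by simpa using (orderOf_conj_eq c⁻¹ i).trans hi) ?_
    rw [mul_smul, mul_smul, hc1, hix, ← hc2, inv_smul_smul]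
  have hmem : c⁻¹ * d * c ∈ zpowers (c⁻¹ * i * c * σ') := by
    rw [← h.twoStab_eq_zpowers hy hR hdD hdc]
    exact (h.twoStab_mem_iff_conj hy hc1 hc2).1 ⟨hdx, hdz⟩
  obtain ⟨k, hk⟩ := mem_zpowers_iff.1 hmem
  have hinv := inverts_zpow (left_inverts_prod
    (x := c⁻¹ * i * c) (y := σ') (by simpa using (orderOf_conj_eq c⁻¹ i).trans hi) hσ') k
  rw [hk] at hinv
  calc i * d * i⁻¹ = c * (c⁻¹ * i * c * (c⁻¹ * d * c) * (c⁻¹ * i * c)⁻¹) * c⁻¹ := by group
    _ = d⁻¹ := by rw [hinv]; group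

theorem fix_only_pair (hy : y ≠ base T) (hR : pairCore T y = ⊥) {d : G} (hd : d ∈ twoStab T y)
    (hd1 : d ≠ 1) {c : G ⧸ normT T} (hc0 : c ≠ base T) (hcy : c ≠ y) : d • c ≠ c := by
  intro hdc
  obtain ⟨hdb, hdy⟩ := mem_twoStab.1 hd
  have hdo : orderOf d = 2 ^ n - 1 := by
    refine ((Nat.dvd_prime h.prime).1 ?_).resolve_left (fun e => hd1 (orderOf_eq_one_iff.1 e))
    rw [← h.card_twoStab hy hR]
    exact Subgroup.orderOf_dvd_natCard _ hd
  obtain ⟨i₁, hi₁, hi₁y⟩ := h.exists_swap hy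
  obtain ⟨i₂, hi₂, hi₂c⟩ := h.exists_swap hc0
  obtain ⟨g₁, hg₁, hg₁'⟩ := h.exists_conj_pair hy (Ne.symm hcy)
  obtain ⟨σ, hσ, hσy⟩ := h.exists_swap hy
  set i₃ := g₁ * σ * g₁⁻¹ with hi₃def
  have hi₃ : orderOf i₃ = 2 := (orderOf_conj_eq g₁ σ).trans hσ
  have hi₃y : i₃ • y = c := by
    rw [mul_smul, mul_smul, ← hg₁, inv_smul_smul, hσy, hg₁']
  have k1 := h.swap_inverts hy hR hy.symm hdo hdb hdy hi₁ hi₁y
  have k2 := h.swap_inverts hy hR hc0.symm hdo hdb hdc hi₂ hi₂c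
  have k3 := h.swap_inverts hy hR (Ne.symm hcy) hdo hdy hdc hi₃ hi₃y
  set g := i₃ * (i₂ * i₁) with hg
  have hgy : g • y = y := by
    have e3 : i₃ • c = y := by rw [← hi₃y, smul_self_of_involution hi₃]
    rw [hg, mul_smul i₃ (i₂ * i₁), mul_smul i₂ i₁, h.swap_back hi₁ hi₁y, hi₂c, e3]
  have hginv : g * d * g⁻¹ = d⁻¹ := by
    calc g * d * g⁻¹ = i₃ * (i₂ * (i₁ * d * i₁⁻¹) * i₂⁻¹) * i₃⁻¹ := by rw [hg]; group
      _ = d⁻¹ := by rw [k1, ← conj_inv, k2, inv_inv, k3]
  obtain ⟨m, hm, hm2⟩ := h.exists_odd_pow_sq g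
  have hpow : ∀ j : ℕ, g ^ (2 * j) * d * (g ^ (2 * j))⁻¹ = d ∧
      g ^ (2 * j + 1) * d * (g ^ (2 * j + 1))⁻¹ = d⁻¹ := by
    intro j
    induction j with
    | zero => exact ⟨by simp, by simpa using hginv⟩
    | succ j ih =>
      have e1 : g ^ (2 * (j + 1)) * d * (g ^ (2 * (j + 1)))⁻¹ = d := by
        rw [show 2 * (j + 1) = (2 * j + 1) + 1 by ring, pow_succ']
        calc _ = g * (g ^ (2 * j + 1) * d * (g ^ (2 * j + 1))⁻¹) * g⁻¹ := by group
          _ = d := by rw [ih.2, ← conj_inv, hginv, inv_inv]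
      refine ⟨e1, ?_⟩
      rw [pow_succ']
      calc _ = g * (g ^ (2 * (j + 1)) * d * (g ^ (2 * (j + 1)))⁻¹) * g⁻¹ := by group
        _ = d⁻¹ := by rw [e1, hginv]
  obtain ⟨j, rfl⟩ := hm
  have hodd := h.odd_twoStab hy hd
  have hne : g ^ (2 * j + 1) ≠ 1 := by
    intro e
    have h2 := (hpow j).2
    rw [e, one_mul, inv_one, mul_one] at h2
    have h3 : d ^ 2 = 1 := by
      rw [pow_two]; nth_rewrite 2 [h2]; exact mul_inv_cancel d
    refine hd1 (orderOf_eq_one_iff.1 (Nat.eq_one_of_dvd_coprimes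
      ((Nat.coprime_two_left.2 hodd).symm) dvd_rfl (orderOf_dvd_of_pow_eq_one h3)))
  refine h.not_inverts_fixed (orderOf_eq_prime hm2 hne) ?_ hodd hd1 hdy (hpow j).2
  have hst : g ∈ MulAction.stabilizer G y := hgy
  exact pow_mem hst _

set_option maxHeartbeats 800000 in
/-- If the common part is trivial, so is the odd part of the centraliser of `T`. -/
theorem oddCent_eq_bot_of_semiregular (hO : Cfsg.oddCore G = ⊥) (hy : y ≠ base T)
    (hR : pairCore T y = ⊥) : oddCent T = ⊥ := by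
  classical
  have : Fact (Nat.Prime 2) := ⟨Nat.prime_two⟩
  haveI := Fintype.ofFinite (G ⧸ normT T)
  obtain ⟨t₀, ht₀, ht1⟩ := h.exists_involution
  obtain ⟨σ, hσ, hσy⟩ := h.exists_swap hy
  obtain ⟨σ', -, -, hdo, hdD, hdc⟩ := h.exists_inverted hy hσ hσy
  set d₀ := σ * σ'
  set C := centralizer ((T : Subgroup G) : Set G) with hC
  have hCb : ∀ u ∈ C, u • base T = base T := fun u hu =>
    h.fix_base_of_mem (centralizer_le_normalizer _ hu)
  have hfix : ∀ u ∈ C, u ≠ 1 → ∀ c : G ⧸ normT T, u • c = c → c = base T := by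
    intro u hu hu1 c hc
    by_contra hne
    obtain ⟨g, hg1, hg2⟩ := h.trans_others (base T) y c hy hne
    have hgN := mem_normT_iff.2 hg1
    have hmem : g⁻¹ * u * g ∈ C := by
      refine mem_centralizer_iff.2 fun t ht => ?_
      have h1 := mem_centralizer_iff.1 hu _ ((mem_normalizer_iff.1 hgN t).1 ht)
      calc t * (g⁻¹ * u * g) = g⁻¹ * (g * t * g⁻¹ * u) * g := by group
        _ = g⁻¹ * u * g * t := by rw [h1]; group
    have h2 := h.mem_pairCore_of hy ((h.twoStab_mem_iff_conj hy hg1 hg2).1 ⟨hCb u hu, hc⟩) hmem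
    rw [hR, mem_bot] at h2
    exact hu1 (by rw [show u = g * (g⁻¹ * u * g) * g⁻¹ by group, h2]; group)
  have hZ : Cfsg.IsZassenhausGroup G (G ⧸ normT T) := by
    refine ⟨⟨fun {g g'} e => ?_⟩, ?_, ?_, ?_, ?_⟩
    · have := h.faithful hO (g := g'⁻¹ * g) fun x => by rw [mul_smul, e, inv_smul_smul]
      exact (inv_mul_eq_one.1 this).symm
    · rw [MulAction.is_two_pretransitive_iff]
      intro x z x' z' hxz hxz'
      obtain ⟨c, hc1, hc2⟩ := h.exists_conj_pair hy hxz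
      obtain ⟨c', hc1', hc2'⟩ := h.exists_conj_pair hy hxz'
      exact ⟨c' * c⁻¹, by rw [mul_smul, ← hc1, inv_smul_smul, hc1'],
        by rw [mul_smul, ← hc2, inv_smul_smul, hc2']⟩
    · intro g a b c hab hbc hac ha hb hc
      obtain ⟨k, hk1, hk2⟩ := h.exists_conj_pair hy hab
      have hd := (h.twoStab_mem_iff_conj hy hk1 hk2).1 ⟨ha, hb⟩
      by_contra hg1
      refine h.fix_only_pair hy hR hd (fun e => hg1 ?_) (c := k⁻¹ • c) ?_ ?_ ?_
      · rw [show g = k * (k⁻¹ * g * k) * k⁻¹ by group, e]; group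
      · intro e; exact hac (by rw [← hk1, ← e, smul_inv_smul])
      · intro e; exact hbc (by rw [← hk2, ← e, smul_inv_smul])
      · rw [mul_smul, mul_smul, smul_inv_smul, hc]
    · exact ⟨d₀, fun e => hdc (by rw [e]; exact one_mem _), base T, y, hy.symm,
        (mem_twoStab.1 hdD).1, (mem_twoStab.1 hdD).2⟩
    · intro N hN htr
      by_contra hall
      push Not at hall
      have hNb : ∀ t ∈ N, t • base T = base T → t = 1 := by
        intro t ht htb
        have h1 : (⟨t, ht⟩ : N) ∈ MulAction.stabilizer N (base T) := htb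
        exact congrArg Subtype.val (mem_bot.1 ((SetLike.ext_iff.1 (hall (base T)) _).1 h1))
      have hodd : ¬ 2 ∣ Nat.card N := by
        intro h2
        obtain ⟨t, htN, hto⟩ := exists_involution_of_even_card N (even_iff_two_dvd.2 h2)
        obtain ⟨v, hv⟩ := exists_fixed h.stronglyEmbedded hto
        obtain ⟨m, hm⟩ := MulAction.exists_smul_eq G (base T) v
        refine ne_one_of_involution hto ?_
        have h3 := hNb _ (hN.conj_mem t htN m⁻¹)
          (by rw [inv_inv, mul_smul, mul_smul, hm, hv, ← hm, inv_smul_smul])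
        rw [inv_inv] at h3
        rw [show t = m * (m⁻¹ * t * m) * m⁻¹ by group, h3]; group
      have hNbot : N = ⊥ := eq_bot_iff.2
        ((CfsgLib.PCore.le_pPrimeCore_of_not_dvd hN hodd).trans hO.le)
      obtain ⟨⟨m, hm⟩, hm'⟩ := htr.exists_smul_eq (base T) y
      change m • base T = y at hm'
      rw [hNbot, mem_bot] at hm
      exact hy (by rw [← hm', hm, one_smul])
  have hD : pairStab G (base T) y = twoStab T y := rfl
  have hbij : Function.Bijective (fun u : C => (⟨(u : G) • y, fun e =>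
      hy (smul_left_cancel (u : G) (e.trans (hCb u u.2).symm))⟩ : {x : G ⧸ normT T // ¬ x = base T})) := by
    constructor
    · intro u v e
      have e' : (u : G) • y = (v : G) • y := congrArg Subtype.val e
      apply Subtype.ext
      by_contra hne
      exact hy (hfix _ (mul_mem (inv_mem v.2) u.2) (fun e => hne (inv_mul_eq_one.1 e).symm) y
        (by rw [mul_smul, e', inv_smul_smul]))
    · rintro ⟨c, hc⟩
      obtain ⟨g, hg1, hg2⟩ := h.trans_others (base T) y c hy hc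
      obtain ⟨k, hk⟩ := h.exists_pow_mul (mem_normT_iff.2 (mem_twoStab.1 hdD).1) hdc
        (mem_normT_iff.2 hg1)
      have hmem : d₀ ^ k * ((d₀ ^ k)⁻¹ * g) * (d₀ ^ k)⁻¹ ∈ C := by
        refine mem_centralizer_iff.2 fun t ht => ?_
        have hdk := pow_mem (mem_normT_iff.2 (mem_twoStab.1 hdD).1) k
        have h1 := mem_centralizer_iff.1 hk _ ((mem_normalizer_iff''.1 hdk t).1 ht)
        calc _ = d₀ ^ k * (((d₀ ^ k)⁻¹ * t * d₀ ^ k) * ((d₀ ^ k)⁻¹ * g)) * (d₀ ^ k)⁻¹ := by group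
          _ = _ := by rw [h1]; group
      refine ⟨⟨_, hmem⟩, Subtype.ext ?_⟩
      show (d₀ ^ k * ((d₀ ^ k)⁻¹ * g) * (d₀ ^ k)⁻¹) • y = c
      have hst : d₀ ∈ MulAction.stabilizer G y := (mem_twoStab.1 hdD).2
      rw [mul_smul, (inv_mem (pow_mem hst k) : (d₀ ^ k)⁻¹ • y = y), mul_inv_cancel_left, hg2]
  have hpos : 0 < Fintype.card (G ⧸ normT T) := Fintype.card_pos
  have hcard : Nat.card C + 1 = Fintype.card (G ⧸ normT T) := by
    rw [Nat.card_eq_of_bijective _ hbij, Nat.card_eq_fintype_card, Fintype.card_subtype_compl,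
      Fintype.card_subtype_eq]
    omega
  rw [eq_bot_iff]
  intro x hx
  rw [mem_bot]
  rcases CfsgLib.Zass29.FeitThm.feit hZ hy.symm
    (by rw [hD, h.card_twoStab hy hR]; exact h.prime.odd_of_ne_two (by have := h.four_le; omega))
    C (fun u hu => hCb u hu) hcard hfix with hle | ⟨h2, -, -⟩
  · by_contra hx1
    rw [hD, h.card_twoStab hy hR, ← hcard] at hle
    have h3 : 3 * 2 ^ n ≤ Nat.card C := by
      have hinj : Function.Injective (fun p : ↥(T : Subgroup G) × ↥(oddCent T) =>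
          (⟨(p.1 : G) * p.2, mul_mem (h.le_centralizer p.1.2) (oddCent_le p.2.2)⟩ : C)) := by
        rintro ⟨a, b⟩ ⟨a', b'⟩ e
        have e' : (a : G) * b = a' * b' := congrArg Subtype.val e
        have hmem : (a' : G)⁻¹ * a ∈ (T : Subgroup G) := mul_mem (inv_mem a'.2) a.2
        have hmem' : (a' : G)⁻¹ * a ∈ oddCent T := by
          rw [show (a' : G)⁻¹ * a = b' * (b : G)⁻¹ by
            rw [inv_mul_eq_iff_eq_mul, ← mul_assoc, ← e', mul_inv_cancel_right]]
          exact mul_mem b'.2 (inv_mem b.2)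
        have h1 : (a' : G)⁻¹ * a = 1 := by
          by_contra hne
          have := (h.mem_oddCent.1 hmem').2
          rw [h.involution hmem hne] at this
          exact absurd this (by decide)
        obtain rfl : a = a' := Subtype.ext (inv_mul_eq_one.1 h1).symm
        rw [mul_right_inj] at e'
        rw [Subtype.ext e']
      have h4 := Nat.card_le_card_of_injective _ hinj
      rw [Nat.card_prod, h.card_T] at h4
      have hX : 3 ≤ Nat.card (oddCent T) := by
        obtain ⟨j, hj⟩ := odd_card_oddCent (T := T)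
        have : 1 < Nat.card (oddCent T) := Finite.one_lt_card_iff_nontrivial.2
          ⟨⟨⟨x, hx⟩, 1, fun e => hx1 (congrArg Subtype.val e)⟩⟩
        omega
      calc 3 * 2 ^ n ≤ Nat.card (oddCent T) * 2 ^ n := Nat.mul_le_mul_right _ hX
        _ ≤ _ := by rw [mul_comm]; exact h4
    have := h.four_le
    omega
  · obtain ⟨k, hk⟩ := h2 ⟨x, oddCent_le hx⟩
    rw [← orderOf_eq_one_iff]
    refine Nat.eq_one_of_dvd_coprimes ?_ dvd_rfl (orderOf_dvd_of_pow_eq_one (congrArg Subtype.val hk))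
    exact ((Nat.coprime_two_left.2 (h.mem_oddCent.1 hx).2).pow_left k).symm

end SemiregularCase

end Setup

end CfsgLib.CGroup
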