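import Cfsg.Agent.Lib.CGroup.NoReal
import Cfsg.Agent.Lib.StrongEmbedding.ElementaryCentralizers
import Cfsg.Agent.Lib.BenderTrans.Main
import Cfsg.Agent.Lib.PF.OddOrder
import Cfsg.Agent.Lib.Transfer.NormalComplement

/-!
The standing situation: an elementary abelian non-normal Sylow two-subgroup `T` of order `2^n`,
`2^n - 1` prime, whose normaliser induces a group of order `2^n - 1`, in a group without
real odd order elements centralised by involutions.
-/

set_option autoImplicit false
set_option linter.unusedSectionVars false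

namespace CfsgLib.CGroup

open Subgroup CfsgLib.Involutions
open CfsgLib.StrongEmbedding.ElementaryCentralizers (normT base twoStab involution_mem_T mem_twoStab
  mem_normT_iff)

universe u

variable {G : Type u} [Group G]

/-- The standing hypotheses. -/
structure Setup (T : Sylow 2 G) (n : ℕ) : Prop where
  noReal : NoReal G
  elem : Cfsg.IsElementaryAbelian 2 (T : Subgroup G)
  two_le : 2 ≤ n
  card_T : Nat.card (T : Subgroup G) = 2 ^ n
  prime : (2 ^ n - 1).Prime
  not_normal : ¬ (T : Subgroup G).Normal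
  index : (centralizer ((T : Subgroup G) : Set G)).relIndex (normT T) = 2 ^ n - 1

/-- The part of odd order of the centraliser of `T`. -/
def oddCent (T : Sylow 2 G) : Subgroup G :=
  (Cfsg.oddCore ↥(centralizer ((T : Subgroup G) : Set G))).map
    (centralizer ((T : Subgroup G) : Set G)).subtype

variable [Finite G] {T : Sylow 2 G} {n : ℕ}

theorem odd_card_oddCore (H : Type*) [Group H] [Finite H] : Odd (Nat.card (Cfsg.oddCore H)) :=
  Nat.coprime_two_right.1 CfsgLib.PCore.pPrimeCore_coprime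

theorem odd_card_oddCent : Odd (Nat.card (oddCent T)) := by
  rw [oddCent, card_map_of_injective (subtype_injective _)]
  exact odd_card_oddCore _

theorem oddCent_le : oddCent T ≤ centralizer ((T : Subgroup G) : Set G) := map_subtype_le _

theorem commute_oddCent {x t : G} (hx : x ∈ oddCent T) (ht : t ∈ (T : Subgroup G)) : Commute t x :=
  mem_centralizer_iff.1 (oddCent_le hx) t ht

namespace Setup

variable (h : Setup T n)
include h

theorem sq_eq_one {x : G} (hx : x ∈ (T : Subgroup G)) : x ^ 2 = 1 := h.elem.2 x hx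

theorem comm {x y : G} (hx : x ∈ (T : Subgroup G)) (hy : y ∈ (T : Subgroup G)) : Commute x y :=
  congrArg Subtype.val (h.elem.1.is_comm.comm ⟨x, hx⟩ ⟨y, hy⟩)

theorem le_centralizer : (T : Subgroup G) ≤ centralizer ((T : Subgroup G) : Set G) :=
  fun _ hx => mem_centralizer_iff.2 fun _ hy => h.comm hy hx

theorem involution {x : G} (hx : x ∈ (T : Subgroup G)) (h1 : x ≠ 1) : orderOf x = 2 :=
  orderOf_eq_prime (h.sq_eq_one hx) h1

theorem two_group_comm (S : Subgroup G) (hS : IsPGroup 2 S) :
    ∀ a ∈ S, ∀ b ∈ S, Commute a b := by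
  have : Fact (Nat.Prime 2) := ⟨Nat.prime_two⟩
  obtain ⟨P, hP⟩ := hS.exists_le_sylow
  obtain ⟨g, hg⟩ := MulAction.exists_smul_eq G T P
  intro a ha b hb
  have ha' := hP ha
  have hb' := hP hb
  rw [← hg, Sylow.coe_subgroup_smul] at ha' hb'
  obtain ⟨x, hx, rfl⟩ := ha'
  obtain ⟨y, hy, rfl⟩ := hb'
  exact (h.comm hx hy).map _

/-- The centraliser of an involution of `T` normalises `T`. -/
theorem centralizer_le {t g : G} (ht : t ∈ (T : Subgroup G)) (ht1 : t ≠ 1) (hg : Commute g t) :
    g ∈ normT T := by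
  have : Fact (Nat.Prime 2) := ⟨Nat.prime_two⟩
  have ht2 := h.involution ht ht1
  have key : ∀ x ∈ (T : Subgroup G), g * x * g⁻¹ ∈ (T : Subgroup G) := by
    intro x hx
    by_cases hx1 : x = 1
    · simp [hx1]
    have hy : orderOf (g * x * g⁻¹) = 2 := (orderOf_conj_eq g x).trans (h.involution hx hx1)
    have hty : Commute t (g * x * g⁻¹) := (hg.symm.mul_right (h.comm ht hx)).mul_right hg.symm.inv_right
    have hcomm : ∀ s ∈ (T : Subgroup G), Commute (g * x * g⁻¹) s := by
      intro s hs
      by_cases hs1 : s = 1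
      · rw [hs1]; exact Commute.one_right _
      exact h.noReal.commute_involutions h.two_group_comm ht2 hy (h.involution hs hs1) hty
        (h.comm ht hs)
    refine involution_mem_T hy (fun s => ?_)
    constructor
    · intro hs
      rw [(hcomm s hs).eq, mul_inv_cancel_right]
      exact hs
    · intro hs
      have h2 := (hcomm _ hs).eq
      have h3 : s = g * x * g⁻¹ * s * (g * x * g⁻¹)⁻¹ := by
        rw [eq_comm, mul_inv_eq_iff_eq_mul]
        calc g * x * g⁻¹ * s = (g * x * g⁻¹ * s * (g * x * g⁻¹)⁻¹) * (g * x * g⁻¹) := by group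
          _ = g * x * g⁻¹ * (g * x * g⁻¹ * s * (g * x * g⁻¹)⁻¹) := h2.symm
          _ = (g * x * g⁻¹) * (g * x * g⁻¹) * s * (g * x * g⁻¹)⁻¹ := by group
          _ = s * (g * x * g⁻¹) := by
            rw [mul_self_eq_one hy, one_mul, inv_eq_self_of_involution hy]
      rwa [h3]
  exact CfsgLib.Coprime.mem_normalizer_of_forall_conj key

theorem relIndex_ne_one : (centralizer ((T : Subgroup G) : Set G)).relIndex (normT T) ≠ 1 := by
  rw [h.index]; exact h.prime.one_lt.ne'

theorem four_le : 4 ≤ 2 ^ n := by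
  calc 4 = 2 ^ 2 := rfl
    _ ≤ 2 ^ n := Nat.pow_le_pow_right (by norm_num) h.two_le

theorem exists_involution : ∃ t, t ∈ (T : Subgroup G) ∧ t ≠ 1 := by
  have : Nontrivial (T : Subgroup G) :=
    Finite.one_lt_card_iff_nontrivial.1 (by rw [h.card_T]; linarith [h.four_le])
  obtain ⟨⟨t, ht⟩, hne⟩ := exists_ne (1 : (T : Subgroup G))
  exact ⟨t, ht, fun e => hne (Subtype.ext e)⟩

theorem not_cyclic : ¬ IsCyclic (T : Subgroup G) := by
  intro hc
  obtain ⟨g, hg⟩ := hc.exists_generator
  have h2 : orderOf g ∣ 2 := orderOf_dvd_of_pow_eq_one (Subtype.ext (h.sq_eq_one g.2))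
  rw [orderOf_eq_card_of_forall_mem_zpowers hg, h.card_T] at h2
  have := Nat.le_of_dvd two_pos h2
  linarith [h.four_le]

/-- The normaliser of `T` is transitive on the involutions of `T` and fixes none of them. -/
theorem transitive :
    (∀ t s : G, t ∈ (T : Subgroup G) → t ≠ 1 → s ∈ (T : Subgroup G) → s ≠ 1 →
      ∃ g ∈ normT T, g * t * g⁻¹ = s) ∧
    (∀ t g : G, t ∈ (T : Subgroup G) → t ≠ 1 → Commute g t →
      g ∈ centralizer ((T : Subgroup G) : Set G)) := by
  classical
  set ψ := (T : Subgroup G).normalizerMonoidHom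
  set R := ψ.range
  have hp := h.prime
  haveI : Fact (2 ^ n - 1).Prime := ⟨hp⟩
  have hR : Nat.card R = 2 ^ n - 1 := by
    rw [← h.index, relIndex, ← Subgroup.index_ker, normalizerMonoidHom_ker]
  have hRp : IsPGroup (2 ^ n - 1) R := IsPGroup.of_card (n := 1) (by rw [hR, pow_one])
  -- the fixed subgroup
  let F : Subgroup (T : Subgroup G) :=
    { carrier := {x | ∀ r : R, (r : MulAut (T : Subgroup G)) x = x}
      mul_mem' := fun ha hb r => by rw [map_mul, ha r, hb r]
      one_mem' := fun r => map_one _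
      inv_mem' := fun ha r => by rw [map_inv, ha r] }
  have hFbot : F = ⊥ := by
    have hmod := hRp.card_modEq_card_fixedPoints ((T : Subgroup G) : Subgroup G)
    have hfix : Nat.card (MulAction.fixedPoints R (T : Subgroup G)) = Nat.card F := by
      refine Nat.card_congr (Equiv.subtypeEquivRight fun x => ?_)
      exact Iff.rfl
    rw [hfix, h.card_T] at hmod
    have hFne : F ≠ ⊤ := by
      intro htop
      have : R = ⊥ := by
        rw [eq_bot_iff]
        intro r hr
        rw [mem_bot]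
        ext x
        have hx : x ∈ F := htop ▸ Subgroup.mem_top x
        rw [show r x = x from hx ⟨r, hr⟩]
        rfl
      rw [this, card_bot] at hR
      exact hp.one_lt.ne hR
    obtain ⟨k, hk⟩ := IsPGroup.iff_card.1 ((T.isPGroup').to_subgroup F)
    have hkn : k < n := by
      have h1 : Nat.card F ∣ Nat.card (T : Subgroup G) := F.card_subgroup_dvd_card
      rw [hk, h.card_T, Nat.pow_dvd_pow_iff_le_right (by norm_num)] at h1
      refine lt_of_le_of_ne h1 fun e => hFne ?_
      apply Subgroup.eq_top_of_card_eq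
      rw [hk, h.card_T, e]
    have hle : 2 ^ k * 2 ≤ 2 ^ n := by
      rw [← pow_succ]; exact Nat.pow_le_pow_right (by norm_num) hkn
    have h1 : (2 ^ n : ℕ) ≡ 1 [MOD 2 ^ n - 1] := by
      rw [Nat.ModEq.comm, Nat.modEq_iff_dvd' (by linarith [h.four_le])]
    have h2 : Nat.card F = 1 := by
      have h3 : 2 ^ k ≡ 1 [MOD 2 ^ n - 1] := (hk ▸ hmod.symm.trans h1)
      have h4 := h.four_le
      have h5 : 2 ^ k < 2 ^ n - 1 := by omega
      rw [Nat.ModEq, Nat.mod_eq_of_lt h5, Nat.mod_eq_of_lt hp.one_lt] at h3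
      rw [hk, h3]
    exact Subgroup.card_eq_one.1 h2
  have horb : ∀ t : (T : Subgroup G), t ≠ 1 → MulAction.orbit R t = ({1} : Set _)ᶜ := by
    intro t ht
    obtain ⟨k, hk⟩ := hRp.card_orbit t
    refine Set.eq_of_subset_of_ncard_le ?_ ?_ (Set.toFinite _)
    · rintro _ ⟨r, rfl⟩ (h1 : (r : MulAut (T : Subgroup G)) t = 1)
      exact ht ((r : MulAut (T : Subgroup G)).injective (h1.trans (map_one _).symm))
    · rw [Set.ncard_compl, Set.ncard_singleton, h.card_T, ← Nat.card_coe_set_eq, hk]
      rcases Nat.eq_zero_or_pos k with rfl | hk0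
      · exfalso
        apply ht
        rw [← Subgroup.mem_bot, ← hFbot]
        intro r
        have hsub : Subsingleton (MulAction.orbit R t) :=
          (Nat.card_eq_one_iff_unique.1 (by rw [hk, pow_zero])).1
        exact congrArg Subtype.val (Subsingleton.elim
          (⟨r • t, MulAction.mem_orbit t r⟩ : MulAction.orbit R t)
          ⟨t, MulAction.mem_orbit_self t⟩)
      · exact Nat.le_self_pow hk0.ne' _
  refine ⟨fun t s ht ht1 hs hs1 => ?_, fun t g ht ht1 hg => ?_⟩
  · have hmem : (⟨s, hs⟩ : (T : Subgroup G)) ∈ MulAction.orbit R (⟨t, ht⟩ : (T : Subgroup G)) := by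
      rw [horb _ (fun e => ht1 (congrArg Subtype.val e))]
      exact fun e => hs1 (congrArg Subtype.val e)
    obtain ⟨⟨_, g, rfl⟩, hr⟩ := hmem
    exact ⟨g, g.2, congrArg Subtype.val hr⟩
  · have hgN := h.centralizer_le ht ht1 hg
    have hfix : ψ ⟨g, hgN⟩ ⟨t, ht⟩ = ⟨t, ht⟩ := by
      apply Subtype.ext
      show g * t * g⁻¹ = t
      rw [hg.eq, mul_inv_cancel_right]
    set r : R := ⟨ψ ⟨g, hgN⟩, _, rfl⟩ with hr
    have hr1 : r = 1 := by
      by_contra hne
      have htop : zpowers r = ⊤ := zpowers_eq_top_of_prime_card hR hne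
      have hF : (⟨t, ht⟩ : (T : Subgroup G)) ∈ F := by
        intro r'
        obtain ⟨k, rfl⟩ := mem_zpowers_iff.1 (htop ▸ Subgroup.mem_top r' : r' ∈ zpowers r)
        have hst : r ∈ MulAction.stabilizer R (⟨t, ht⟩ : (T : Subgroup G)) := hfix
        exact (zpow_mem hst k : r ^ k ∈ MulAction.stabilizer R (⟨t, ht⟩ : (T : Subgroup G)))
      rw [hFbot, Subgroup.mem_bot] at hF
      exact ht1 (congrArg Subtype.val hF)
    have hk : (⟨g, hgN⟩ : normT T) ∈ ψ.ker := MonoidHom.mem_ker.2 (congrArg Subtype.val hr1)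
    rw [normalizerMonoidHom_ker] at hk
    exact hk

/-- Every element of odd order centralising `T` lies in the odd part. -/
theorem mem_oddCent {x : G} :
    x ∈ oddCent T ↔ x ∈ centralizer ((T : Subgroup G) : Set G) ∧ Odd (orderOf x) := by
  have : Fact (Nat.Prime 2) := ⟨Nat.prime_two⟩
  set C := centralizer ((T : Subgroup G) : Set G)
  constructor
  · exact fun hx => ⟨oddCent_le hx, odd_orderOf_of_mem odd_card_oddCent hx⟩
  rintro ⟨hxC, hxo⟩
  let P : Sylow 2 C := T.subtype h.le_centralizer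
  obtain ⟨S, N, hN, hc⟩ := CfsgLib.Transfer.hasNormalPComplement_of_normalizer_le P (fun g _ => by
    refine mem_centralizer_iff.2 fun t ht => Subtype.ext ?_
    exact mem_centralizer_iff.1 g.2 t ht)
  have hidx : N.index = Nat.card S := hc.symm.index_eq_card
  have hNodd : ¬ 2 ∣ Nat.card N := by
    intro h2
    apply S.not_dvd_index
    rwa [hc.index_eq_card]
  have hxN : (⟨x, hxC⟩ : C) ∈ N := by
    rw [← QuotientGroup.eq_one_iff, ← orderOf_eq_one_iff]
    obtain ⟨k, hk⟩ := IsPGroup.iff_card.1 S.isPGroup'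
    refine Nat.eq_one_of_dvd_coprimes (((Nat.coprime_two_left.2 hxo).pow_left k).symm)
      ((orderOf_map_dvd (QuotientGroup.mk' N) (⟨x, hxC⟩ : C)).trans (by rw [orderOf_mk])) ?_
    rw [← hk, ← hidx, index_eq_card]
    exact orderOf_dvd_natCard _
  exact ⟨⟨x, hxC⟩, CfsgLib.PCore.le_pPrimeCore_of_not_dvd hN hNodd hxN, rfl⟩

theorem oddCent_normal_in {g x : G} (hg : g ∈ normT T) (hx : x ∈ oddCent T) :
    g * x * g⁻¹ ∈ oddCent T := by
  rw [h.mem_oddCent] at hx ⊢
  refine ⟨mem_centralizer_iff.2 fun t ht => ?_, by rw [orderOf_conj_eq]; exact hx.2⟩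
  have ht' : g⁻¹ * t * g ∈ (T : Subgroup G) := (mem_normalizer_iff''.1 hg t).1 ht
  have := mem_centralizer_iff.1 hx.1 _ ht'
  calc t * (g * x * g⁻¹) = g * ((g⁻¹ * t * g) * x) * g⁻¹ := by group
    _ = g * x * g⁻¹ * t := by rw [this]; group

theorem exists_decomp {c : G} (hc : c ∈ centralizer ((T : Subgroup G) : Set G)) :
    ∃ t ∈ (T : Subgroup G), ∃ x ∈ oddCent T, c = t * x := by
  have : Fact (Nat.Prime 2) := ⟨Nat.prime_two⟩
  set m := orderOf (c ^ 2) with hm
  have hm' : Odd m := by
    rw [← Nat.not_even_iff_odd]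
    intro he
    -- otherwise a power of `c` has order four
    obtain ⟨k, hk⟩ := he
    have h4 : orderOf (c ^ k) = 4 := by
      have hc2 : orderOf (c ^ 2) * 2 = orderOf c := by
        have h2 : 2 ∣ orderOf c := by
          by_contra h2
          rw [orderOf_pow, Nat.Coprime.gcd_eq_one
            ((Nat.Prime.coprime_iff_not_dvd Nat.prime_two).2 h2).symm, Nat.div_one] at hm
          exact h2 ⟨k, by omega⟩
        rw [orderOf_pow, Nat.gcd_eq_right h2, Nat.div_mul_cancel h2]
      rw [← hm] at hc2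
      have hk0 : 0 < k := by have := orderOf_pos (c ^ 2); omega
      rw [orderOf_pow' _ hk0.ne', Nat.gcd_eq_right (by rw [← hc2, hk]; exact ⟨4, by ring⟩),
        show orderOf c = 4 * k by omega]
      exact Nat.mul_div_cancel _ hk0
    have hP : IsPGroup 2 (zpowers (c ^ k)) :=
      IsPGroup.of_card (n := 2) (by rw [Nat.card_zpowers, h4]; rfl)
    have hle : zpowers (c ^ k) ≤ normalizer ((T : Subgroup G) : Set G) :=
      zpowers_le.2 (centralizer_le_normalizer _ (pow_mem hc k))
    have hmem : c ^ k ∈ zpowers (c ^ k) ⊓ normT T := ⟨mem_zpowers _, hle (mem_zpowers _)⟩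
    rw [show zpowers (c ^ k) ⊓ normT T = _ from hP.inf_normalizer_sylow T] at hmem
    have := orderOf_dvd_of_pow_eq_one (h.sq_eq_one hmem.2)
    rw [h4] at this
    omega
  obtain ⟨j, hj⟩ := hm'
  have h2m : (c ^ m) ^ 2 = 1 := by rw [← pow_mul, mul_comm, pow_mul, pow_orderOf_eq_one]
  refine ⟨c ^ m, ?_, (c ^ 2) ^ (j + 1), h.mem_oddCent.2
    ⟨pow_mem (pow_mem hc 2) _, Odd.of_dvd_nat ⟨j, hj⟩ (orderOf_pow_dvd _)⟩, ?_⟩
  · by_cases h1 : c ^ m = 1
    · rw [h1]; exact one_mem _
    exact involution_mem_T (orderOf_eq_prime h2m h1) (centralizer_le_normalizer _ (pow_mem hc m))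
  · rw [← pow_mul, ← pow_add, show m + 2 * (j + 1) = 2 * m + 1 by omega, pow_succ, pow_mul,
      pow_orderOf_eq_one, one_mul]

theorem stronglyEmbedded : Cfsg.IsStronglyEmbedded (normT T) := by
  obtain ⟨z, hzT, hz1⟩ := h.exists_involution
  rw [isStronglyEmbedded_iff]
  refine ⟨fun htop => h.not_normal (Subgroup.normalizer_eq_top_iff.1 htop),
    even_card_of_involution_mem (le_normalizer hzT) (h.involution hzT hz1),
    fun g hg t htH ht hs => hg ?_⟩
  have htT := involution_mem_T ht htH
  have hso : orderOf (g⁻¹ * t * g) = 2 := by simpa using (orderOf_conj_eq g⁻¹ t).trans ht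
  have hsT := involution_mem_T hso hs
  obtain ⟨m, hm, hme⟩ := h.transitive.1 t (g⁻¹ * t * g) htT (ne_one_of_involution ht) hsT
    (ne_one_of_involution hso)
  have hc : Commute (g * m) t := by
    show g * m * t = t * (g * m)
    calc g * m * t = g * (m * t * m⁻¹) * m := by group
      _ = t * (g * m) := by rw [hme]; group
  have := h.centralizer_le htT (ne_one_of_involution ht) hc
  simpa using mul_mem this (inv_mem hm)

theorem trans_others : ∀ a b b' : G ⧸ normT T, b ≠ a → b' ≠ a →
    ∃ g : G, g • a = a ∧ g • b = b' := by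
  refine CfsgLib.BenderTrans.twoTrans_of_stronglyEmbedded
    (fun X _ _ hX => CfsgLib.PF.oddSolvable X hX) h.stronglyEmbedded ?_
  obtain ⟨s, hs, hs1⟩ := h.exists_involution
  have hne : (({1, s} : Set G)) ≠ ((T : Subgroup G) : Set G) := by
    intro e
    have h2 := congrArg Set.ncard e
    rw [Set.ncard_pair (Ne.symm hs1), ← Nat.card_coe_set_eq] at h2
    rw [show Nat.card ↑((T : Subgroup G) : Set G) = 2 ^ n from h.card_T] at h2
    linarith [h.four_le]
  obtain ⟨t, ht, htn⟩ : ∃ t ∈ (T : Subgroup G), t ∉ ({1, s} : Set G) := by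
    by_contra! hall
    exact hne (Set.Subset.antisymm
      (Set.insert_subset (one_mem _) (Set.singleton_subset_iff.2 hs)) hall)
  simp only [Set.mem_insert_iff, Set.mem_singleton_iff, not_or] at htn
  exact ⟨s, t, h.involution hs hs1, h.involution ht htn.1, fun e => htn.2 e.symm, h.comm hs ht⟩

/-- The action on the cosets of `N(T)` is faithful when there is no odd core. -/
theorem faithful (hO : Cfsg.oddCore G = ⊥) {g : G} (hg : ∀ x : G ⧸ normT T, g • x = x) : g = 1 := by
  have : Fact (Nat.Prime 2) := ⟨Nat.prime_two⟩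
  let φ := MulAction.toPermHom G (G ⧸ normT T)
  have hodd : ¬ 2 ∣ Nat.card φ.ker := by
    intro h2
    obtain ⟨t, ht, hto⟩ := exists_involution_of_even_card φ.ker (even_iff_two_dvd.2 h2)
    have hfix : ∀ x : G ⧸ normT T, t • x = x := fun x => Equiv.Perm.ext_iff.1 ht x
    obtain ⟨u, hu, huH⟩ := CfsgLib.StrongEmbedding.exists_involution_notMem h.stronglyEmbedded
    refine huH (mem_normT_iff.2 ?_)
    exact CfsgLib.StrongEmbedding.fixed_unique h.stronglyEmbedded hto (hfix _) (hfix _)
  have hmem : g ∈ φ.ker := Equiv.ext hg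
  have := CfsgLib.PCore.le_pPrimeCore_of_not_dvd (inferInstance : φ.ker.Normal) hodd hmem
  rwa [show Cfsg.pPrimeCore 2 G = ⊥ from hO, mem_bot] at this

end Setup

end CfsgLib.CGroup
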