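import Cfsg.Agent.Lib.CGroup.FixSet

/-!
The odd part of the centraliser of `T` lies in the odd core.
-/

set_option autoImplicit false
set_option linter.unusedSectionVars false
set_option linter.style.haveILetI false

namespace CfsgLib.CGroup

open Subgroup CfsgLib.Involutions
open CfsgLib.StrongEmbedding (exists_fixed fixed_unique smul_self_of_involution)
open CfsgLib.StrongEmbedding.ElementaryCentralizers (normT base twoStab involution_mem_T mem_twoStab
  mem_normT_iff)

universe u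

variable {G : Type u} [Group G] [Finite G] {T : Sylow 2 G} {n : ℕ}

namespace Setup

variable (h : Setup T n)
include h

variable {y : G ⧸ normT T}

/-- If the common part is non-trivial the odd part of the centraliser of `T` is trivial. -/
theorem oddCent_eq_bot_of_pairCore_ne (hI : ProperProp G) (hO : Cfsg.oddCore G = ⊥)
    (hy : y ≠ base T) (hR : pairCore T y ≠ ⊥) : oddCent T = ⊥ := by
  by_contra hne
  set R := pairCore T y with hRdef
  haveI : Nontrivial R := (Subgroup.nontrivial_iff_ne_bot _).2 hR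
  set a := (Nat.card R).minFac with ha_def
  haveI ha : Fact a.Prime := ⟨Nat.minFac_prime (Finite.one_lt_card (α := R)).ne'⟩
  have haR : a ∣ Nat.card R := Nat.minFac_dvd _
  have ha2 : a ≠ 2 := by
    intro e
    exact Nat.not_even_iff_odd.2 odd_card_oddCent
      (even_iff_two_dvd.2 ((e ▸ haR).trans (card_dvd_of_le inf_le_right)))
  obtain ⟨PA⟩ : Nonempty (Sylow a R) := inferInstance
  set A := (PA : Subgroup R).map R.subtype with hA_def
  have hA : A ≤ R := map_subtype_le _
  have hAa : IsPGroup a A := PA.isPGroup'.map _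
  have hAcard : Nat.card A = Nat.card PA := card_map_of_injective (subtype_injective _)
  have hAw : a ∣ Nat.card A := hAcard ▸ PA.dvd_card_of_dvd_card haR
  have hA1 : A ≠ ⊥ := by
    intro e
    rw [e, card_bot] at hAw
    exact ha.out.not_dvd_one hAw
  have hmax : ∀ S : Subgroup G, IsPGroup a S → A ≤ S → S ≤ R → S = A := by
    intro S hS hAS hSR
    have h1 := PA.is_maximal' (Q := S.subgroupOf R)
      (hS.of_equiv (subgroupOfEquivOfLe hSR).symm) (fun x hx => hAS ⟨x, hx, rfl⟩)
    rw [hA_def, ← h1, map_subgroupOf_eq_of_le hSR]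
  have hconj : ∀ B : Subgroup G, B ≤ R → IsPGroup a B → Nat.card B = Nat.card A →
      ∃ s ∈ R, B = A.map (MulAut.conj s).toMonoidHom := by
    intro B hBR hBa hBc
    obtain ⟨Q, hQ⟩ := (hBa.of_equiv (subgroupOfEquivOfLe hBR).symm).exists_le_sylow
    have hQeq : B.subgroupOf R = Q := by
      refine eq_of_le_of_card_ge hQ (le_of_eq ?_)
      rw [Nat.card_congr (subgroupOfEquivOfLe hBR).toEquiv, hBc, hAcard,
        Sylow.card_eq_multiplicity, Sylow.card_eq_multiplicity PA]
    obtain ⟨s, hs⟩ := MulAction.exists_smul_eq R PA Q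
    refine ⟨s, s.2, ?_⟩
    rw [← map_subgroupOf_eq_of_le hBR, hQeq, ← hs, Sylow.coe_subgroup_smul, hA_def, map_map]
    ext x
    constructor
    · rintro ⟨_, ⟨w, hw, rfl⟩, rfl⟩
      exact ⟨w, hw, rfl⟩
    · rintro ⟨w, hw, rfl⟩
      exact ⟨_, ⟨w, hw, rfl⟩, rfl⟩
  have hcyc := h.isCyclic_sylow_pairCore hI hO hy hne hA hAa hA1 hmax
  have hPAcyc : IsCyclic (PA : Subgroup R) :=
    haveI : IsCyclic ((PA : Subgroup R).map R.subtype) := hcyc
    isCyclic_of_surjective
      ((PA : Subgroup R).equivMapOfInjective R.subtype (subtype_injective R)).symm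
      (MulEquiv.surjective _)
  have hRC : ∀ r ∈ R, r ∈ normalizer (A : Set G) → r ∈ centralizer (A : Set G) := by
    intro r hr hrN
    have h1 : (⟨r, hr⟩ : R) ∈ normalizer ((PA : Subgroup R) : Set R) := by
      refine CfsgLib.Coprime.mem_normalizer_of_forall_conj fun z hz => ?_
      obtain ⟨w, hw, hwe⟩ := (mem_normalizer_iff.1 hrN (z : G)).1 ⟨z, hz, rfl⟩
      have : w = (⟨r, hr⟩ : R) * z * (⟨r, hr⟩ : R)⁻¹ := Subtype.ext hwe
      exact this ▸ hw
    refine mem_centralizer_iff.2 ?_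
    rintro _ ⟨z, hz, rfl⟩
    exact congrArg Subtype.val
      (mem_centralizer_iff.1 (hPAcyc.normalizer_le_centralizer rfl h1) z hz)
  have hfix := fun c (hc : c ∈ fixSet T A) hcb =>
    h.fixSet_eq hI hO hy hA hA1 hconj hAa hc hcb
  by_cases hdvd : a ∣ 2 ^ n + 1
  · exact h.false_of_dvd hy ha2 hA hAw hfix hdvd
  set M := centralizer (A : Set G) with hM
  have hMN : M ≤ normalizer (A : Set G) := centralizer_le_normalizer _
  -- reduction of elements of the normaliser to the stabiliser of the base point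
  have hred : ∀ g ∈ normalizer (A : Set G), ∀ c ∈ fixSet T A, g • c = c →
      ∃ m ∈ M, m⁻¹ * g * m ∈ normT T ∧ m⁻¹ * g * m ∈ normalizer (A : Set G) := by
    intro g hg c hc hgc
    obtain ⟨m, hm, hmc⟩ := h.centralizer_transitive hy hA hfix c hc
    exact ⟨m, hm, mem_normT_iff.2 (by rw [mul_smul, mul_smul, hmc, hgc, ← hmc, inv_smul_smul]),
      mul_mem (mul_mem (inv_mem (hMN hm)) hg) (hMN hm)⟩
  have hSyl : ∀ S : Subgroup G, IsPGroup a S → A ≤ S → S = A := by
    intro S hS hAS
    by_contra hSA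
    obtain ⟨y₀, hy₀S, hy₀A, hy₀N⟩ :=
      exists_mem_normalizer_notMem hS (lt_of_le_of_ne hAS (Ne.symm hSA))
    letI : MulAction (zpowers y₀) (fixSet T A) :=
      { smul := fun g v => ⟨(g : G) • (v : G ⧸ normT T),
          fixSet_invariant (zpowers_le.2 hy₀N g.2) v.2⟩
        one_smul := fun v => Subtype.ext (one_smul G (v : G ⧸ normT T))
        mul_smul := fun g g' v => Subtype.ext (mul_smul (g : G) (g' : G) (v : G ⧸ normT T)) }
    have hcardF : Nat.card (fixSet T A) = 2 ^ n + 1 := by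
      rw [Nat.card_coe_set_eq, h.ncard_fixSet hy hA hfix]
    obtain ⟨⟨c, hc⟩, hcfix⟩ := (hS.to_le (zpowers_le.2 hy₀S)).nonempty_fixed_point_of_prime_not_dvd_card
      (fixSet T A) (by rwa [hcardF])
    have hy₀c : y₀ • c = c := congrArg Subtype.val (hcfix ⟨y₀, mem_zpowers y₀⟩)
    obtain ⟨m, hm, hy₁T, hy₁N⟩ := hred y₀ hy₀N c hc hy₀c
    set y₁ := m⁻¹ * y₀ * m with hy₁
    obtain ⟨l, hl⟩ := IsPGroup.iff_orderOf.1 hS ⟨y₀, hy₀S⟩
    rw [orderOf_mk] at hl
    have hl1 : orderOf y₁ = a ^ l := by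
      rw [← hl]; simpa using orderOf_conj_eq m⁻¹ y₀
    obtain ⟨⟨x, hxA⟩, hxo⟩ := exists_prime_orderOf_dvd_card' (G := A) a hAw
    rw [orderOf_mk] at hxo
    have hap : a ≠ 2 ^ n - 1 := fun e => h.coprime_oddCent (hA hxA).2 (by rw [hxo, e])
    set ψ := (T : Subgroup G).normalizerMonoidHom
    have h1 : orderOf (ψ.rangeRestrict ⟨y₁, hy₁T⟩) = 1 := by
      refine Nat.eq_one_of_dvd_coprimes
        (((Nat.coprime_primes ha.out h.prime).2 hap).pow_left l).symm ?_ ?_
      · rw [← h.index, relIndex, ← normalizerMonoidHom_ker, Subgroup.index_ker]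
        exact orderOf_dvd_natCard _
      · refine (orderOf_map_dvd ψ.rangeRestrict _).trans ?_
        rw [orderOf_mk, hl1]
    have hk : (⟨y₁, hy₁T⟩ : normT T) ∈ ψ.ker :=
      MonoidHom.mem_ker.2 (congrArg Subtype.val (orderOf_eq_one_iff.1 h1))
    rw [normalizerMonoidHom_ker] at hk
    have hy₁X : y₁ ∈ oddCent T :=
      h.mem_oddCent.2 ⟨hk, by rw [hl1]; exact (ha.out.odd_of_ne_two ha2).pow⟩
    have hP : IsPGroup a (zpowers y₁) :=
      IsPGroup.of_card (n := l) (by rw [Nat.card_zpowers, hl1])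
    have h2 := h.eq_of_pgroup_le hI hO hy hA hA1 hmax
      (hP.to_sup_of_normal_right' hAa (zpowers_le.2 hy₁N)) le_sup_right
      (sup_le (zpowers_le.2 hy₁X) (hA.trans inf_le_right))
    have hy₁A : y₁ ∈ A := h2 ▸ mem_sup_left (mem_zpowers y₁)
    apply hy₀A
    have h3 := mem_centralizer_iff.1 hm y₁ hy₁A
    rw [hy₁] at h3
    have h4 : y₀ = y₁ := by
      rw [hy₁]
      calc y₀ = m * (m⁻¹ * y₀ * m) * m⁻¹ := by group
        _ = m⁻¹ * y₀ * m := by rw [← h3]; group
    exact h4 ▸ hy₁A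
  obtain ⟨σ, hσ, hσy⟩ := h.exists_swap hy
  obtain ⟨σ', hσ', hσ'y, -, hdD, hdc⟩ := h.exists_inverted hy hσ hσy
  have hd₀A : σ * σ' ∈ M :=
    mul_mem (mem_centralizer_iff.2 fun z hz => (h.commute_swap hy hσ hσy (hA hz)).symm.eq)
      (mem_centralizer_iff.2 fun z hz => (h.commute_swap hy hσ' hσ'y (hA hz)).symm.eq)
  have hNC : normalizer (A : Set G) ≤ M := by
    intro g hg
    obtain ⟨m, hm, hmg⟩ := h.centralizer_transitive hy hA hfix (g • base T)
      (fixSet_invariant hg (h.mem_fixSet_base hA))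
    have hgb : (m⁻¹ * g) • base T = base T := by rw [mul_smul, ← hmg, inv_smul_smul]
    have hgN : m⁻¹ * g ∈ normalizer (A : Set G) := mul_mem (inv_mem (hMN hm)) hg
    obtain ⟨t, ht, hte⟩ := hfix ((m⁻¹ * g) • y) (fixSet_invariant hgN (h.mem_fixSet_self hA))
      (fun e => hy (smul_left_cancel _ (e.trans hgb.symm)))
    have hd : t⁻¹ * (m⁻¹ * g) ∈ twoStab T y :=
      mem_twoStab.2 ⟨by rw [mul_smul, hgb, h.fix_base_of_mem (le_normalizer (inv_mem ht))],
        by rw [mul_smul, hte, inv_smul_smul]⟩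
    obtain ⟨k, r, hr, hkr⟩ := h.exists_pairCore_decomp hy hdD hdc hd
    have hrN : r ∈ normalizer (A : Set G) := by
      have : r = ((σ * σ') ^ k)⁻¹ * (t⁻¹ * (m⁻¹ * g)) := by rw [hkr, inv_mul_cancel_left]
      rw [this]
      exact mul_mem (inv_mem (hMN (pow_mem hd₀A k)))
        (mul_mem (inv_mem (hMN (h.T_le_centralizer hA ht))) hgN)
    have : g = m * (t * ((σ * σ') ^ k * r)) := by rw [← hkr]; group
    rw [this]
    exact mul_mem hm (mul_mem (h.T_le_centralizer hA ht)
      (mul_mem (pow_mem hd₀A k) (hRC r hr hrN)))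
  let PG : Sylow a G :=
    { toSubgroup := A
      isPGroup' := hAa
      is_maximal' := fun {Q} hQ hAQ => hSyl Q hQ hAQ }
  obtain ⟨S, N, hN, hc⟩ := CfsgLib.Transfer.hasNormalPComplement_of_normalizer_le PG hNC
  haveI := hN
  have hSA : Nat.card S = Nat.card A :=
    (Sylow.card_eq_multiplicity S).trans (Sylow.card_eq_multiplicity PG).symm
  have hidx : N.index = Nat.card A := by rw [← hSA]; exact hc.symm.index_eq_card
  have hinv : ∀ i : G, orderOf i = 2 → i ∈ N := by
    intro i hi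
    rw [← QuotientGroup.eq_one_iff, ← orderOf_eq_one_iff]
    obtain ⟨l, hl⟩ := IsPGroup.iff_card.1 hAa
    refine Nat.eq_one_of_dvd_coprimes (a := 2) (b := a ^ l)
      (((Nat.coprime_primes Nat.prime_two ha.out).2 (Ne.symm ha2)).pow_right l)
      ((orderOf_map_dvd (QuotientGroup.mk' N) i).trans (dvd_of_eq hi)) ?_
    rw [← hl, ← hidx, index_eq_card]
    exact orderOf_dvd_natCard _
  have hTN : (T : Subgroup G) ≤ N := fun t ht => by
    by_cases h1 : t = 1
    · rw [h1]; exact one_mem _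
    · exact hinv t (h.involution ht h1)
  have hNtop : N ≠ ⊤ := by
    intro e
    rw [e, index_top] at hidx
    exact hA1 (Subgroup.card_eq_one.1 hidx.symm)
  have hNX := h.inf_le_pairCore hI hy hNtop hTN (fun t ht _ => hinv t ht)
  apply hne
  refine h.eq_bot_of_fixed hO hy ?_
  have hcardX : Nat.card (N ⊓ oddCent T : Subgroup G) * Nat.card A ∣ Nat.card R := by
    refine Nat.Coprime.mul_dvd_of_dvd_of_dvd ?_ (card_dvd_of_le hNX) (card_dvd_of_le hA)
    have h1 : ¬ a ∣ Nat.card N := by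
      intro h2
      apply S.not_dvd_index
      rwa [hc.index_eq_card]
    obtain ⟨l, hl⟩ := IsPGroup.iff_card.1 hAa
    rw [hl]
    exact ((ha.out.coprime_iff_not_dvd.2
      fun h2 => h1 (h2.trans (card_dvd_of_le inf_le_left))).symm).pow_right l
  have hX : Nat.card (oddCent T) ∣ Nat.card (N ⊓ oddCent T : Subgroup G) * Nat.card A := by
    rw [← card_mul_index ((N ⊓ oddCent T).subgroupOf (oddCent T)), inf_subgroupOf_right,
      ← hidx]
    refine Nat.mul_dvd_mul ?_ (relIndex_dvd_index_of_normal N (oddCent T))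
    rw [← inf_subgroupOf_right,
      Nat.card_congr (subgroupOfEquivOfLe (inf_le_right : N ⊓ oddCent T ≤ oddCent T)).toEquiv]
  exact (eq_of_le_of_card_ge (H := R) inf_le_right
    (Nat.le_of_dvd Nat.card_pos (hX.trans hcardX))).ge

theorem oddCent_eq_bot (hI : ProperProp G) (hO : Cfsg.oddCore G = ⊥) : oddCent T = ⊥ := by
  obtain ⟨y, hy⟩ := h.exists_ne_base
  by_cases hR : pairCore T y = ⊥
  · exact h.oddCent_eq_bot_of_semiregular hO hy hR
  · exact h.oddCent_eq_bot_of_pairCore_ne hI hO hy hR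

/-- Reduction modulo the odd core. -/
theorem le_oddCore_of_quotient
    (hIH : CoreProp (G ⧸ Cfsg.oddCore G)) : oddCent T ≤ Cfsg.oddCore G := by
  classical
  have : Fact (Nat.Prime 2) := ⟨Nat.prime_two⟩
  set O := Cfsg.oddCore G with hOdef
  set f := QuotientGroup.mk' O with hf
  have hfs : Function.Surjective f := QuotientGroup.mk'_surjective O
  have hodd : Odd (Nat.card O) := odd_card_oddCore G
  haveI := h.elem.1
  have hcen : O ≤ centralizer ((T : Subgroup G) : Set G) :=
    h.noReal.four_centralizes h.elem.2 h.not_cyclic hodd (le_normalizer_of_normal.trans' le_top)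
  have hTO : ∀ x, x ∈ (T : Subgroup G) → x ∈ O → x = 1 := by
    intro x hx hxO
    by_contra h1
    have := odd_orderOf_of_mem hodd hxO
    rw [h.involution hx h1] at this
    exact absurd this (by decide)
  set Tb : Sylow 2 (G ⧸ O) := T.mapSurjective hfs with hTb
  have hTbm : ∀ v, v ∈ (Tb : Subgroup (G ⧸ O)) ↔ ∃ t ∈ (T : Subgroup G), f t = v := fun v => Iff.rfl
  have hlift : ∀ g : G, f g ∈ normT Tb → g ∈ normT T := by
    intro g hg
    refine CfsgLib.Coprime.mem_normalizer_of_forall_conj fun t ht => ?_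
    obtain ⟨t', ht', he⟩ := (hTbm _).1 ((mem_normalizer_iff.1 hg (f t)).1 ((hTbm _).2 ⟨t, ht, rfl⟩))
    have hmem : g * t * g⁻¹ * t'⁻¹ ∈ O := by
      rw [← QuotientGroup.eq_one_iff]
      show f (g * t * g⁻¹ * t'⁻¹) = 1
      rw [map_mul, map_inv, he, map_mul, map_mul, map_inv, mul_inv_cancel]
    set o := g * t * g⁻¹ * t'⁻¹ with ho
    have hcomm : Commute t' o := mem_centralizer_iff.1 (hcen hmem) t' ht'
    have hsq : o ^ 2 = 1 := by
      have h1 : (o * t') ^ 2 = 1 := by
        rw [ho, inv_mul_cancel_right, conj_pow, h.sq_eq_one ht, mul_one, mul_inv_cancel]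
      rwa [hcomm.symm.mul_pow, h.sq_eq_one ht', mul_one] at h1
    have ho1 : o = 1 := by
      by_contra h1
      have := odd_orderOf_of_mem hodd hmem
      rw [orderOf_eq_prime hsq h1] at this
      exact absurd this (by decide)
    rw [ho, mul_inv_eq_one] at ho1
    rw [ho1]; exact ht'
  have himg : ∀ g : G, g ∈ normT T → f g ∈ normT Tb := by
    intro g hg
    refine CfsgLib.Coprime.mem_normalizer_of_forall_conj ?_
    rintro _ ⟨t, ht, rfl⟩
    exact (hTbm _).2 ⟨g * t * g⁻¹, (mem_normalizer_iff.1 hg t).1 ht, by rw [map_mul, map_mul, map_inv]⟩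
  let φ : normT T →* normT Tb :=
    { toFun := fun g => ⟨f g, himg g g.2⟩
      map_one' := Subtype.ext (map_one f)
      map_mul' := fun a b => Subtype.ext (map_mul f (a : G) (b : G)) }
  have hφ : Function.Surjective φ := by
    rintro ⟨v, hv⟩
    obtain ⟨g, rfl⟩ := hfs v
    exact ⟨⟨g, hlift g hv⟩, rfl⟩
  have hker : ((Tb : Subgroup (G ⧸ O)).normalizerMonoidHom.comp φ).ker =
      (centralizer ((T : Subgroup G) : Set G)).subgroupOf (normT T) := by
    ext g
    rw [MonoidHom.mem_ker, MonoidHom.comp_apply, ← MonoidHom.mem_ker, normalizerMonoidHom_ker,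
      mem_subgroupOf, mem_subgroupOf, mem_centralizer_iff, mem_centralizer_iff]
    constructor
    · intro e t ht
      have h1 : f t * f g = f g * f t := e (f t) ((hTbm _).2 ⟨t, ht, rfl⟩)
      have h2 : (g : G) * t * (g : G)⁻¹ * t⁻¹ = 1 := by
        refine hTO _ (mul_mem ((mem_normalizer_iff.1 g.2 t).1 ht) (inv_mem ht)) ?_
        rw [← QuotientGroup.eq_one_iff]
        show f ((g : G) * t * (g : G)⁻¹ * t⁻¹) = 1
        rw [map_mul, map_mul, map_mul, map_inv, map_inv, ← h1]
        group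
      rw [mul_inv_eq_one, mul_inv_eq_iff_eq_mul] at h2
      exact h2.symm
    · rintro e _ ⟨t, ht, rfl⟩
      show f t * f g = f g * f t
      rw [← map_mul, e t ht, map_mul]
  have hindex : (centralizer ((Tb : Subgroup (G ⧸ O)) : Set (G ⧸ O))).relIndex (normT Tb) = 2 ^ n - 1 := by
    rw [← h.index, relIndex, relIndex, ← hker, ← normalizerMonoidHom_ker, Subgroup.index_ker,
      Subgroup.index_ker, MonoidHom.range_comp, MonoidHom.range_eq_top.2 hφ, MonoidHom.range_eq_map]
  have hS : Setup Tb n := by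
    refine ⟨h.noReal.quotient hodd, ⟨⟨⟨?_⟩⟩, ?_⟩, h.two_le, ?_, h.prime, ?_, hindex⟩
    · rintro ⟨_, a, ha, rfl⟩ ⟨_, b, hb, rfl⟩
      exact Subtype.ext ((h.comm ha hb).map f).eq
    · rintro _ ⟨a, ha, rfl⟩
      rw [← map_pow, h.sq_eq_one ha, map_one]
    · rw [← h.card_T]
      refine (Nat.card_eq_of_bijective (fun t : ↥(T : Subgroup G) =>
        (⟨f t, (hTbm _).2 ⟨t, t.2, rfl⟩⟩ : ↥(Tb : Subgroup (G ⧸ O)))) ⟨?_, ?_⟩).symm
      · intro a b e
        have e' : f (a : G) = f b := congrArg Subtype.val e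
        refine Subtype.ext (inv_mul_eq_one.1 (hTO _ (mul_mem (inv_mem a.2) b.2) ?_))
        exact QuotientGroup.eq.1 e'
      · rintro ⟨v, hv⟩
        obtain ⟨t, ht, rfl⟩ := (hTbm v).1 hv
        exact ⟨⟨t, ht⟩, rfl⟩
    · intro hn'
      refine h.not_normal (normalizer_eq_top_iff.1 (eq_top_iff.2 fun g _ => hlift g ?_))
      rw [show normT Tb = ⊤ from normalizer_eq_top_iff.2 hn']
      exact mem_top _
  intro x hx
  have h1 : f x ∈ oddCent Tb := by
    refine hS.mem_oddCent.2 ⟨mem_centralizer_iff.2 ?_,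
      Odd.of_dvd_nat (h.mem_oddCent.1 hx).2 (orderOf_map_dvd f x)⟩
    rintro _ ⟨t, ht, rfl⟩
    exact ((commute_oddCent hx ht).map f).eq
  have h2 := hIH Tb n hS h1
  have hbot : Cfsg.oddCore (G ⧸ Cfsg.oddCore G) = ⊥ :=
    CfsgLib.PCore.pPrimeCore_quotient_pPrimeCore
  exact (QuotientGroup.eq_one_iff x).1 (mem_bot.1 (hbot.le h2))

end Setup

theorem coreProp_aux : ∀ (k : ℕ) (G : Type u) [Group G] [Finite G], Nat.card G = k → CoreProp G := by
  intro k
  induction k using Nat.strong_induction_on with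
  | _ k ih =>
    intro G _ _ hk T n h
    by_cases hO : Cfsg.oddCore G = ⊥
    · rw [h.oddCent_eq_bot (fun M hM => ih _ ?_ M rfl) hO]
      · exact bot_le
      rw [← hk]
      refine lt_of_le_of_ne (card_le_card_group M) fun e => hM (eq_top_of_card_eq M e)
    · refine h.le_oddCore_of_quotient (ih _ ?_ _ rfl)
      rw [← hk, ← Subgroup.index_eq_card, ← (Cfsg.oddCore G).card_mul_index]
      exact lt_mul_of_one_lt_left (Nat.pos_of_ne_zero index_ne_zero_of_finite)
        (Subgroup.one_lt_card_iff_ne_bot _ |>.2 hO)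

/-- The odd part of the centraliser of `T` lies in the odd core. -/
theorem coreProp (G : Type u) [Group G] [Finite G] : CoreProp G := coreProp_aux _ G rfl

end CfsgLib.CGroup
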